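import Cfsg.Agent.Lib.Invol.CentRank.Action
import Cfsg.Agent.Lib.Invol.CentInt.CoverDerived

/-!
# The groups of Bender's theorem with three involutions in a Sylow 2-subgroup

They are `SL(2, 4)` and `PSU(3, 4)`; in the second an element of order five normalises the Sylow subgroup,
fixes its involutions and is not trivial on it.
-/

set_option autoImplicit false
set_option linter.style.haveILetI false
set_option linter.unusedSectionVars false

open Subgroup

namespace Cfsg.Agent.Invol.CentRank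

universe u

/-- What is used about a Sylow 2-subgroup of `PSU(3, 4)`. -/
structure UnitData {B : Type*} [Group B] (P : Subgroup B) : Prop where
  card : Nat.card P = 64
  ne_comm : ¬ IsMulCommutative P
  five : ∃ r : B, r ^ 5 = 1 ∧ (∀ x ∈ P, r * x * r⁻¹ ∈ P) ∧ (∀ w ∈ P, w * w = 1 → r * w * r⁻¹ = w) ∧
    ∃ x ∈ P, r * x * r⁻¹ ≠ x

/-- An isomorphism can be made to carry a given Sylow subgroup to another. -/
theorem exists_iso_sylow {A B : Type*} [Group A] [Finite A] [Group B] [Finite B] (φ : A ≃* B) (P₀ : Sylow 2 A)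
    (P : Sylow 2 B) : ∃ ψ : A ≃* B, (P₀ : Subgroup A).map ψ.toMonoidHom = P := by
  haveI : Fact (Nat.Prime 2) := ⟨Nat.prime_two⟩
  obtain ⟨g, hg⟩ := MulAction.exists_smul_eq B (P₀.mapSurjective (f := φ.toMonoidHom) φ.surjective) P
  refine ⟨φ.trans (MulAut.conj g), ?_⟩
  rw [← hg, Sylow.coe_subgroup_smul]
  show _ = ((P₀ : Subgroup A).map φ.toMonoidHom).map (MulAut.conj g).toMonoidHom
  rw [map_map]
  rfl

theorem ncard_sq_one_map {A B : Type*} [Group A] [Group B] (ψ : A ≃* B) (P₀ : Subgroup A) :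
    {x : B | x ∈ P₀.map ψ.toMonoidHom ∧ x * x = 1}.ncard = {x : A | x ∈ P₀ ∧ x * x = 1}.ncard := by
  rw [← Set.ncard_image_of_injective {x : A | x ∈ P₀ ∧ x * x = 1} ψ.injective]
  congr 1
  ext x
  constructor
  · rintro ⟨⟨y, hy, rfl⟩, h⟩
    exact ⟨y, ⟨hy, ψ.injective (by rw [map_mul, map_one]; exact h)⟩, rfl⟩
  · rintro ⟨y, ⟨hy, h⟩, rfl⟩
    exact ⟨⟨y, hy, rfl⟩, by rw [← map_mul, h, map_one]⟩

theorem UnitData.map {A B : Type*} [Group A] [Group B] (ψ : A ≃* B) {P : Subgroup A} (h : UnitData P) :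
    UnitData (P.map ψ.toMonoidHom) := by
  obtain ⟨hc, hne, r, hr, hn, hw, x, hx, hxr⟩ := h
  refine ⟨by rw [card_map_of_injective (f := ψ.toMonoidHom) ψ.injective, hc], fun hcomm => hne ⟨⟨fun a b =>
    Subtype.ext (ψ.injective ?_)⟩⟩, ψ r, by rw [← map_pow, hr, map_one], ?_, ?_, ψ x, ⟨x, hx, rfl⟩, fun e => ?_⟩
  · simp only [Subgroup.coe_mul, map_mul]
    exact congrArg Subtype.val
      (hcomm.is_comm.comm (⟨_, mem_map_of_mem ψ.toMonoidHom a.2⟩ : P.map ψ.toMonoidHom)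
        ⟨_, mem_map_of_mem ψ.toMonoidHom b.2⟩)
  · rintro _ ⟨y, hy, rfl⟩
    exact ⟨_, hn y hy, by simp⟩
  · rintro _ ⟨y, hy, rfl⟩ h
    have h' : y * y = 1 := ψ.injective (by rw [map_mul, map_one]; exact h)
    simpa using congrArg ψ (hw y hy h')
  · exact hxr (ψ.injective (by rw [map_mul, map_mul, map_inv]; exact e))

section Linear

open Matrix Cfsg.Agent.Grp.SL2

theorem sylow_sl {F : Type} [Field F] [Fintype F] [CharP F 2] :
    ∃ P : Sylow 2 (Matrix.SpecialLinearGroup (Fin 2) F),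
      Nat.card (P : Subgroup (Matrix.SpecialLinearGroup (Fin 2) F)) = Fintype.card F ∧
      {x | x ∈ (P : Subgroup (Matrix.SpecialLinearGroup (Fin 2) F)) ∧ x * x = 1}.ncard = Fintype.card F := by
  classical
  haveI : Fact (Nat.Prime 2) := ⟨Nat.prime_two⟩
  obtain ⟨W, hW⟩ : ∃ W : Subgroup (Matrix.SpecialLinearGroup (Fin 2) F), ∀ g, g ∈ W ↔ ∃ t : F, g = up t :=
    ⟨{ carrier := {g | ∃ t : F, g = up t}
       one_mem' := ⟨0, up_zero.symm⟩
       mul_mem' := by rintro _ _ ⟨s, rfl⟩ ⟨t, rfl⟩; exact ⟨s + t, up_mul s t⟩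
       inv_mem' := by
        rintro _ ⟨s, rfl⟩
        exact ⟨-s, inv_eq_of_mul_eq_one_right (by rw [up_mul, add_neg_cancel, up_zero])⟩ },
      fun _ => Iff.rfl⟩
  have hcard : Nat.card ↥W = Fintype.card F := by
    rw [← Nat.card_eq_fintype_card (α := F)]
    refine (Nat.card_eq_of_bijective (fun t : F => (⟨up t, (hW _).2 ⟨t, rfl⟩⟩ : ↥W))
      ⟨fun s t h => ?_, fun g => ?_⟩).symm
    · simpa [up] using congrFun (congrFun (congrArg Subtype.val (congrArg Subtype.val h)) 0) 1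
    · obtain ⟨t, ht⟩ := (hW g).1 g.2
      exact ⟨t, Subtype.ext ht.symm⟩
  obtain ⟨n, -, hn⟩ := FiniteField.card F 2
  have hidx : ¬ 2 ∣ W.index := by
    have h1 := W.card_mul_index
    rw [hcard, Lie.SympWreath.natCard_SL2] at h1
    rw [Nat.eq_of_mul_eq_mul_left Fintype.card_pos h1]
    have h2 : Even (Fintype.card F ^ 2) := by
      rw [hn, ← pow_mul]; exact Nat.even_pow.2 ⟨even_two, by positivity⟩
    exact fun h => (Nat.not_even_iff_odd.2 (Nat.Even.sub_odd (Nat.one_le_pow _ _ Fintype.card_pos) h2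
      odd_one)) (even_iff_two_dvd.2 h)
  refine ⟨(IsPGroup.of_card (hcard.trans hn) : IsPGroup 2 W).toSylow hidx, hcard, ?_⟩
  refine Eq.trans ?_ hcard
  show _ = Set.ncard (W : Set (Matrix.SpecialLinearGroup (Fin 2) F))
  refine congrArg Set.ncard (Set.ext fun x => ⟨fun hx => hx.1, fun hx => ⟨hx, ?_⟩⟩)
  obtain ⟨t, rfl⟩ := (hW x).1 hx
  rw [up_mul, CharTwo.add_self_eq_zero, up_zero]

end Linear

section Unitary

open Matrix Cfsg Cfsg.Agent.Classical Cfsg.Agent.Classical.PSUAut Cfsg.Agent.Fus.UnitN Cfsg.Agent.Lie.SUGen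
  Cfsg.Agent.Lie.SU3Pres Cfsg.Agent.Transfer.U3Min

theorem sylow_psu {F : Type} [Field F] [Fintype F] {q : ℕ} (hF : Fintype.card F = q ^ 2) (heven : Even q)
    (h4 : 4 ≤ q) : ∃ P : Sylow 2 (PSU 3 F q),
      q ≤ {x | x ∈ (P : Subgroup (PSU 3 F q)) ∧ x * x = 1}.ncard ∧
      (q = 4 → UnitData (P : Subgroup (PSU 3 F q))) := by
  classical
  haveI : Fact (Nat.Prime 2) := ⟨Nat.prime_two⟩
  obtain ⟨p, hc⟩ := CharP.exists F
  haveI : Fact p.Prime := ⟨CharP.char_is_prime F p⟩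
  obtain rfl : p = 2 := Dickson.p_eq_two p (by rw [hF]; exact heven.pow_of_ne_zero two_ne_zero)
  obtain ⟨e, n, f, B⟩ := exists_frame hF
  obtain ⟨k, -, hk⟩ := FiniteField.card F 2
  obtain ⟨j, -, hj⟩ := (Nat.dvd_prime_pow Nat.prime_two).1
    (show q ∣ 2 ^ (k : ℕ) from hk ▸ hF ▸ dvd_pow_self q two_ne_zero)
  obtain ⟨π, hπdef⟩ : ∃ π : SU 3 F q →* PSU 3 F q, π = suToPSU 3 F q := ⟨_, rfl⟩
  have hπs : Function.Surjective π := hπdef ▸ pi_surjective
  have hUker : ∀ u ∈ Uni hF B, π u = 1 → u = 1 := by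
    intro u hu h1
    obtain ⟨l, hl⟩ := (pi_eq_one_iff hF).1 (hπdef ▸ h1)
    have h2 : suVal u *ᵥ e = l • e := by rw [hl, Matrix.smul_mulVec, Matrix.one_mulVec]
    rw [(mem_Uni_iff hF B).1 hu] at h2
    have hl1 : l = 1 := (smul_left_injective F B.P.ne_zero (by simpa using h2)).symm
    refine suVal_ext ?_
    rw [hl, hl1, one_smul, suVal_one']
  have hU : Nat.card (Uni hF B) = q ^ 3 := by
    have h := card_inf_Uni hF B ⊤
    rw [top_inf_eq] at h
    have hb := card_inf_Bor hF B ⊤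
    rw [top_inf_eq, card_Bor hF B, top_inf_eq] at hb
    have ht : tSet B ⊤ = ⊤ := eq_top_iff.2 fun l _ =>
      (mem_tSet hF B).2 ⟨Tm hF B (l : F), Subgroup.mem_top _, T_e hF B l.ne_zero⟩
    rw [ht, Subgroup.card_top, Nat.card_units, Nat.card_eq_fintype_card (α := F), hF] at hb
    exact (Nat.eq_of_mul_eq_mul_right (Nat.sub_pos_of_lt (Nat.one_lt_pow two_ne_zero (by omega))) hb).symm
  have hUp : IsPGroup 2 ↥((Uni hF B).map π) :=
    IsPGroup.map (IsPGroup.of_card (n := j * 3) (by rw [hU, hj, ← pow_mul])) _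
  have hUidx : ¬ 2 ∣ ((Uni hF B).map π).index := by
    intro h2
    have h3 := h2.trans (Subgroup.index_map_dvd (Uni hF B) hπs)
    rw [← Subgroup.relIndex_mul_index (Uni_le_Bor hF B), index_Bor hF B] at h3
    have hr : (Uni hF B).relIndex (Bor B) * q ^ 3 = (q ^ 2 - 1) * q ^ 3 := by
      have := Subgroup.card_mul_index ((Uni hF B).subgroupOf (Bor B))
      rw [Nat.card_congr (Subgroup.subgroupOfEquivOfLe (Uni_le_Bor hF B)).toEquiv, hU, card_Bor hF B] at this
      rw [Subgroup.relIndex, mul_comm, this, mul_comm]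
    rw [Nat.eq_of_mul_eq_mul_right (pow_pos (show 0 < q by omega) 3) hr] at h3
    have hq3 : Odd (q ^ 3 + 1) := Even.add_one (heven.pow_of_ne_zero (by norm_num))
    have hq2 : Odd (q ^ 2 - 1) := Nat.Even.sub_odd (Nat.one_le_pow _ _ (by omega))
      (heven.pow_of_ne_zero (by norm_num)) odd_one
    exact (Nat.not_even_iff_odd.2 (hq2.mul hq3)) (even_iff_two_dvd.2 h3)
  have hinj : ∀ {α b α' b' : F}, OK hF α b → OK hF α' b' → π (Um hF B α b) = π (Um hF B α' b') →
      α = α' ∧ b = b' := by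
    intro α b α' b' h1 h2 he
    have h := hUker _ (Subgroup.mul_mem _ (Subgroup.inv_mem _ ⟨α, b, h1, rfl⟩) ⟨α', b', h2, rfl⟩)
      (by rw [map_mul, map_inv, he, inv_mul_cancel])
    exact U_inj hF B h1 h2 (inv_mul_eq_one.1 h)
  have hskew : ∀ c : F, qFrob hF c = c → OK hF 0 c := fun c hc => OK.skew hF (by
    rw [hc, CharTwo.add_self_eq_zero])
  refine ⟨hUp.toSylow hUidx, ?_, fun hq => ?_⟩
  · have hcard := Lie.MinIndexUnit.card_fixed hF
    have hle : Nat.card {x : F // qFrob hF x = x} ≤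
        {x | x ∈ (Uni hF B).map π ∧ x * x = 1}.ncard := by
      rw [← Nat.card_coe_set_eq]
      refine Nat.card_le_card_of_injective (fun c => (⟨π (Um hF B 0 c.1),
        ⟨_, ⟨0, c.1, hskew _ c.2, rfl⟩, rfl⟩, ?_⟩ : {x | x ∈ (Uni hF B).map π ∧ x * x = 1})) ?_
      · rw [← map_mul, U_mul hF B (hskew _ c.2) (hskew _ c.2)]
        simp [CharTwo.add_self_eq_zero, U_zero hF B]
      · intro c c' he
        exact Subtype.ext (hinj (hskew _ c.2) (hskew _ c'.2) (congrArg Subtype.val he)).2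
    have e : Nat.card {x : F // qFrob hF x = x} = q := hcard
    exact e.symm.le.trans hle
  · subst hq
    have hcardU : Nat.card ↥((Uni hF B).map π) = 64 := by
      rw [← Nat.card_congr (Equiv.ofBijective
        (fun u : Uni hF B => (⟨π u, Subgroup.mem_map_of_mem π u.2⟩ : (Uni hF B).map π))
        ⟨fun u v huv => Subtype.ext (inv_mul_eq_one.1 (hUker _ (Subgroup.mul_mem _ (Subgroup.inv_mem _ u.2) v.2)
          (by rw [map_mul, map_inv, show π u = π v from congrArg Subtype.val huv, inv_mul_cancel]))),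
          fun ⟨x, u, hu, hx⟩ => ⟨⟨u, hu⟩, Subtype.ext hx⟩⟩), hU]
      norm_num
    refine ⟨hcardU, CentInt.psu_sylow_nonabelian hF (n := 2) (by norm_num) (by omega)
      (hUp.toSylow hUidx), ?_⟩
    -- an element of order five in the multiplicative group
    obtain ⟨g, hg⟩ := IsCyclic.exists_ofOrder_eq_natCard (α := Fˣ)
    rw [Nat.card_units, Nat.card_eq_fintype_card, hF] at hg
    obtain ⟨l, hl5, hl1⟩ : ∃ l : Fˣ, l ^ 5 = 1 ∧ l ^ 7 ≠ 1 := by
      refine ⟨g ^ 3, ?_, fun h => ?_⟩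
      · rw [← pow_mul]
        exact orderOf_dvd_iff_pow_eq_one.1 (by rw [hg]; norm_num)
      · rw [← pow_mul] at h
        have := orderOf_dvd_of_pow_eq_one h
        rw [hg] at this
        norm_num at this
    have hl : (l : F) ≠ 0 := l.ne_zero
    have hN : (l : F) * qFrob hF l = 1 := by
      rw [qFrob_apply, ← pow_succ']
      rw [show (4 : ℕ) + 1 = 5 from rfl, ← Units.val_pow_eq_pow_val, hl5, Units.val_one]
    have hth : th hF (l : F) ≠ 1 := by
      rw [th_eq_pow hF B hl]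
      exact fun h => hl1 (Units.ext (by push_cast; exact h))
    refine ⟨π (Tm hF B l), ?_, ?_, ?_, ?_⟩
    · rw [← map_pow]
      have h5 : Tm hF B (l : F) ^ 5 = 1 := by
        have hpow : ∀ i : ℕ, Tm hF B (l : F) ^ i = Tm hF B ((l : F) ^ i) := by
          intro i
          induction i with
          | zero => rw [pow_zero, pow_zero, T_one hF B]
          | succ i ih => rw [pow_succ, pow_succ, ih, T_mul hF B (pow_ne_zero _ hl) hl]
        rw [hpow, show (l : F) ^ 5 = 1 from by rw [← Units.val_pow_eq_pow_val, hl5, Units.val_one], T_one hF B]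
      rw [h5, map_one]
    · rintro _ ⟨u, ⟨α, b, hb, rfl⟩, rfl⟩
      exact ⟨_, ⟨_, _, hb.scale hF hl, T_conj hF B hl hb⟩, by simp⟩
    · rintro _ ⟨u, ⟨α, b, hb, rfl⟩, rfl⟩ hxx
      have h := hUker _ (Subgroup.mul_mem _ ⟨α, b, hb, rfl⟩ ⟨α, b, hb, rfl⟩) (by rw [map_mul]; exact hxx)
      rw [U_mul hF B hb hb] at h
      have h' := (U_eq_one hF B (hb.mul hF hb) h).2
      have h'' : qFrob hF α * α = 0 := by
        linear_combination (-h') + b * (CharTwo.two_eq_zero : (2 : F) = 0)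
      have hα : α = 0 := by
        rcases mul_eq_zero.1 h'' with h3 | h3
        · exact (map_eq_zero _).1 h3
        · exact h3
      subst hα
      rw [← map_mul, ← map_inv, ← map_mul, T_conj hF B hl hb, mul_zero, hN, one_mul]
    · obtain ⟨b, hb'⟩ := exists_trace_eq hF (a := -((1 : F) * qFrob hF 1))
        (by rw [map_neg, map_mul, map_one, map_one])
      have hb : OK hF 1 b := by unfold OK; linear_combination hb'
      refine ⟨π (Um hF B 1 b), ⟨_, ⟨1, b, hb, rfl⟩, rfl⟩, fun h => hth ?_⟩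
      rw [← map_mul, ← map_inv, ← map_mul, T_conj hF B hl hb] at h
      have := (hinj (hb.scale hF hl) hb h).1
      rwa [mul_one] at this

end Unitary

section Suzuki

open Cfsg.Agent.Suz

theorem sylow_sz {F : Type} [Field F] [Fintype F] {m : ℕ} (hS : SzField F m) :
    ∃ P : Sylow 2 ↥(Cfsg.Sz F m), 8 ≤ {x | x ∈ (P : Subgroup ↥(Cfsg.Sz F m)) ∧ x * x = 1}.ncard := by
  classical
  haveI : Fact (Nat.Prime 2) := ⟨Nat.prime_two⟩
  haveI := Suz.charP hS
  refine ⟨(isPGroup_unip hS).toSylow (not_two_dvd_index_unip hS), (eight_le hS).trans ?_⟩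
  rw [← Nat.card_eq_fintype_card, ← Nat.card_coe_set_eq]
  refine Nat.card_le_card_of_injective (fun b => (⟨uS hS 0 b, (mem_unip hS).2 ⟨0, b, rfl⟩, ?_⟩ :
    {x | x ∈ (unip hS : Subgroup ↥(Cfsg.Sz F m)) ∧ x * x = 1})) ?_
  · rw [← pow_two, uS_sq, mul_zero, uS_zero]
  · intro b b' he
    exact (uS_injective hS (congrArg Subtype.val he)).2

end Suzuki

/-- A group of Bender's theorem with three involutions in a Sylow 2-subgroup. -/
theorem small_bender {B : Type u} [Group B] [Finite B] (hB : CentInt.IsBenderGrp B) (P : Sylow 2 B)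
    (h : {x | x ∈ (P : Subgroup B) ∧ x * x = 1}.ncard ≤ 4) :
    (Nat.card B = 60 ∧ Nat.card (P : Subgroup B) = 4) ∨ UnitData (P : Subgroup B) := by
  rcases hB with ⟨F, i1, i2, hc, h4, ⟨e⟩⟩ | ⟨F, i1, i2, q, hq, h4, hF, ⟨e⟩⟩ | ⟨F, i1, i2, m, hm, hF, ⟨e⟩⟩
  · haveI := hc
    obtain ⟨P₀, hP₀, hW⟩ := sylow_sl (F := F)
    obtain ⟨ψ, hψ⟩ := exists_iso_sylow e.symm P₀ P
    rw [← hψ, ncard_sq_one_map, hW] at h
    have hF4 : Fintype.card F = 4 := le_antisymm h h4
    left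
    rw [← hψ, card_map_of_injective (f := ψ.toMonoidHom) ψ.injective, hP₀, ← Nat.card_congr ψ.toEquiv,
      Lie.SympWreath.natCard_SL2, hF4]
    norm_num
  · obtain ⟨P₀, hW, hd⟩ := sylow_psu hF hq h4
    obtain ⟨ψ, hψ⟩ := exists_iso_sylow e.symm P₀ P
    rw [← hψ, ncard_sq_one_map] at h
    exact Or.inr (hψ ▸ (hd (by omega)).map ψ)
  · exfalso
    have hS : Suz.SzField F m := ⟨hm, hF⟩
    obtain ⟨P₀, hW⟩ := sylow_sz hS
    obtain ⟨ψ, hψ⟩ := exists_iso_sylow ((Suz.szEquiv hS).trans e.symm) P₀ P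
    rw [← hψ, ncard_sq_one_map] at h
    omega

end Cfsg.Agent.Invol.CentRank
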