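import Mathlib
import Cfsg.Prelude.Def_CaseTheorems
import Cfsg.Prelude.Def_SporadicB
import Cfsg.Prelude.Def_TwoFusion
import Cfsg.Prelude.Def_Local
import Cfsg.Prelude.Def_Classical
import Cfsg.Agent.Lib.Invol.Sylow
import Cfsg.Agent.Lib.Invol.ZStar
import Cfsg.Agent.Lib.Invol.Core2.TwistBasic
import Cfsg.Agent.Lib.Grp.Cores

/-!
# Sylow 2-intersections with a 2-central involution have rank one

`FourUnique G`: a 2-central involution and a second involution commuting with it lie in one Sylow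
2-subgroup only.  Then the 2-central involutions of a Sylow 2-subgroup `S` make up, with `1`, the
group `Ω₁ Z(S)`, which is strongly closed in `S`, and two of its members determine `S`.
-/

set_option autoImplicit false
set_option linter.style.haveILetI false
set_option linter.unusedSectionVars false

open Subgroup

namespace Cfsg.Agent.Invol.CentRank

variable {G : Type*} [Group G]

/-- A 2-central involution and an involution commuting with it lie together in one Sylow 2-subgroup only. -/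
def FourUnique (G : Type*) [Group G] : Prop :=
  ∀ (S T : Sylow 2 G) (z u : G), Cfsg.IsTwoCentralInvolution z → orderOf u = 2 → u ≠ z → u * z = z * u →
    z ∈ (S : Subgroup G) → u ∈ (S : Subgroup G) → z ∈ (T : Subgroup G) → u ∈ (T : Subgroup G) → S = T

/-- `Ω₁ Z(S)`. -/
def zg (S : Sylow 2 G) : Subgroup G where
  carrier := {x | x ∈ (S : Subgroup G) ∧ x * x = 1 ∧ ∀ s ∈ (S : Subgroup G), s * x = x * s}
  one_mem' := ⟨one_mem _, one_mul 1, fun s _ => by rw [mul_one, one_mul]⟩
  mul_mem' := fun {a b} ha hb => ⟨mul_mem ha.1 hb.1, by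
      calc a * b * (a * b) = a * (b * a) * b := by group
        _ = a * (a * b) * b := by rw [ha.2.2 b hb.1]
        _ = (a * a) * (b * b) := by group
        _ = 1 := by rw [ha.2.1, hb.2.1, one_mul],
    fun s hs => by
      calc s * (a * b) = (s * a) * b := by group
        _ = a * (s * b) := by rw [ha.2.2 s hs, mul_assoc]
        _ = a * (b * s) := by rw [hb.2.2 s hs]
        _ = a * b * s := by group⟩
  inv_mem' := fun {a} ha => by
    have e : a⁻¹ = a := inv_eq_of_mul_eq_one_right ha.2.1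
    rw [e]
    exact ha

theorem mem_zg {S : Sylow 2 G} {x : G} :
    x ∈ zg S ↔ x ∈ (S : Subgroup G) ∧ x * x = 1 ∧ ∀ s ∈ (S : Subgroup G), s * x = x * s := Iff.rfl

theorem zg_le (S : Sylow 2 G) : zg S ≤ (S : Subgroup G) := fun _ hx => (mem_zg.1 hx).1

theorem zg_commute {S : Sylow 2 G} {x : G} (hx : x ∈ zg S) {s : G} (hs : s ∈ (S : Subgroup G)) :
    s * x = x * s := (mem_zg.1 hx).2.2 s hs

theorem twoCentral_of_mem {S : Sylow 2 G} {x : G} (hx : x ∈ zg S) (hne : x ≠ 1) :
    Cfsg.IsTwoCentralInvolution x :=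
  ⟨orderOf_two_iff.2 ⟨(mem_zg.1 hx).2.1, hne⟩, S, zg_le S hx, fun _ hs => zg_commute hx hs⟩

theorem mem_zg_of_orderOf {S : Sylow 2 G} {x : G} (hxS : x ∈ (S : Subgroup G)) (h2 : orderOf x = 2)
    (hc : ∀ s ∈ (S : Subgroup G), s * x = x * s) : x ∈ zg S :=
  mem_zg.2 ⟨hxS, mul_self_of_orderOf_two h2, hc⟩

theorem conj_twoCentral {z : G} (hz : Cfsg.IsTwoCentralInvolution z) (g : G) :
    Cfsg.IsTwoCentralInvolution (g * z * g⁻¹) := by
  obtain ⟨h2, P, hP, hc⟩ := hz
  refine ⟨by rw [orderOf_conj_eq, h2], g • P, ?_, fun x hx => ?_⟩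
  · show g * z * g⁻¹ ∈ ((g • P : Sylow 2 G) : Subgroup G)
    rw [Sylow.coe_subgroup_smul]
    exact ⟨z, hP, rfl⟩
  · have hx' : x ∈ ((g • P : Sylow 2 G) : Subgroup G) := hx
    rw [Sylow.coe_subgroup_smul] at hx'
    obtain ⟨y, hy, rfl⟩ := hx'
    have e := hc y hy
    show g * y * g⁻¹ * (g * z * g⁻¹) = g * z * g⁻¹ * (g * y * g⁻¹)
    calc g * y * g⁻¹ * (g * z * g⁻¹) = g * (y * z) * g⁻¹ := by group
      _ = g * (z * y) * g⁻¹ := by rw [e]
      _ = _ := by group

theorem mem_smul_sylow {S : Sylow 2 G} {g x : G} :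
    x ∈ ((g • S : Sylow 2 G) : Subgroup G) ↔ g⁻¹ * x * g ∈ (S : Subgroup G) := by
  rw [Sylow.coe_subgroup_smul, mem_pointwise_smul_iff_inv_smul_mem]
  simp

theorem exists_invol_center [Finite G] (S : Sylow 2 G) (hS : (S : Subgroup G) ≠ ⊥) :
    ∃ x ∈ zg S, x ≠ 1 := by
  haveI : Fact (Nat.Prime 2) := ⟨Nat.prime_two⟩
  haveI : Nontrivial (S : Subgroup G) := (Subgroup.nontrivial_iff_ne_bot _).2 hS
  haveI : Nontrivial (Subgroup.center (S : Subgroup G)) := S.isPGroup'.center_nontrivial
  obtain ⟨c, hc⟩ := exists_prime_orderOf_dvd_card' (G := Subgroup.center (S : Subgroup G)) 2 (by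
    obtain ⟨k, hk⟩ := IsPGroup.iff_card.1 (S.isPGroup'.to_subgroup (Subgroup.center _))
    rw [hk]
    refine dvd_pow_self 2 fun e => ?_
    rw [e, pow_zero] at hk
    exact (Finite.one_lt_card (α := Subgroup.center (S : Subgroup G))).ne' hk)
  have h2 : orderOf ((c : (S : Subgroup G)) : G) = 2 := by rw [Subgroup.orderOf_coe, Subgroup.orderOf_coe, hc]
  exact ⟨_, mem_zg_of_orderOf (c : (S : Subgroup G)).2 h2 fun s hs =>
    congrArg Subtype.val (mem_center_iff.1 c.2 ⟨s, hs⟩), ne_one_of_orderOf_two h2⟩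

variable [Finite G] (h : FourUnique G)
include h

/-- An involution commuting with a 2-central involution `z` shares with it a Sylow subgroup in which `z` is
central; so `z ∈ Ω₁ Z(S)` for the one Sylow subgroup `S` containing both. -/
theorem mem_zg_of_commute {S : Sylow 2 G} {z u : G} (hz : Cfsg.IsTwoCentralInvolution z)
    (hu : orderOf u = 2) (hne : u ≠ z) (hc : u * z = z * u) (hzS : z ∈ (S : Subgroup G))
    (huS : u ∈ (S : Subgroup G)) : z ∈ zg S := by
  haveI : Fact (Nat.Prime 2) := ⟨Nat.prime_two⟩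
  obtain ⟨hz2, P, hzP, hcP⟩ := hz
  have hle : (P : Subgroup G) ≤ centralizer ({z} : Set G) := fun x hx =>
    mem_centralizer_singleton_iff.2 (hcP x hx)
  set C := centralizer ({z} : Set G) with hC
  have huC : u ∈ C := mem_centralizer_singleton_iff.2 hc
  obtain ⟨g, hg⟩ := exists_conj_mem_sylow (n := 1) (x := (⟨u, huC⟩ : C))
    (by rw [pow_one, Subgroup.orderOf_mk, hu]) (P.subtype hle)
  have hg' : (g : G) * u * (g : G)⁻¹ ∈ (P : Subgroup G) := hg
  have hgz : (g : G) * z = z * g := mem_centralizer_singleton_iff.1 g.2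
  set T : Sylow 2 G := (g : G)⁻¹ • P with hT
  have hTmem : ∀ x, x ∈ (T : Subgroup G) ↔ (g : G) * x * (g : G)⁻¹ ∈ (P : Subgroup G) := fun x => by
    rw [hT, mem_smul_sylow, inv_inv]
  have hzz : (g : G) * z * (g : G)⁻¹ = z := by rw [hgz, mul_inv_cancel_right]
  have hTS : T = S := h T S z u ⟨hz2, P, hzP, hcP⟩ hu hne hc ((hTmem z).2 (by rwa [hzz]))
    ((hTmem u).2 hg') hzS huS
  refine mem_zg_of_orderOf hzS hz2 fun s hs => ?_
  rw [← hTS, hTmem] at hs
  have e := hcP _ hs
  have hzi : (g : G)⁻¹ * z * (g : G) = z := by rw [mul_assoc, ← hgz, inv_mul_cancel_left]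
  calc s * z = s * ((g : G)⁻¹ * z * g) := by rw [hzi]
    _ = (g : G)⁻¹ * ((g : G) * s * (g : G)⁻¹ * z) * g := by group
    _ = (g : G)⁻¹ * (z * ((g : G) * s * (g : G)⁻¹)) * g := by rw [e]
    _ = ((g : G)⁻¹ * z * g) * s := by group
    _ = z * s := by rw [hzi]

/-- The 2-central involutions of `S` lie in `Ω₁ Z(S)`. -/
theorem mem_zg_of_twoCentral {S : Sylow 2 G} {z : G} (hz : Cfsg.IsTwoCentralInvolution z)
    (hzS : z ∈ (S : Subgroup G)) : z ∈ zg S := by
  obtain ⟨x, hx, hx1⟩ := exists_invol_center S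
    (fun e => ne_one_of_orderOf_two hz.1 (mem_bot.1 (e ▸ hzS)))
  rcases eq_or_ne x z with rfl | hne
  · exact hx
  · exact mem_zg_of_commute h hz (twoCentral_of_mem hx hx1).1 hne (zg_commute hx hzS).symm hzS (zg_le S hx)

theorem stronglyClosed_zg (S : Sylow 2 G) : Cfsg.IsStronglyClosed (zg S) (S : Subgroup G) := by
  refine ⟨zg_le S, fun x hx g hg => ?_⟩
  rcases eq_or_ne x 1 with rfl | hx1
  · simp
  · exact mem_zg_of_twoCentral h (conj_twoCentral (twoCentral_of_mem hx hx1) g) hg

/-- A pair of involutions, one in `Ω₁ Z(S)`, the other in `S`, determines `S`. -/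
theorem eq_of_mem {S T : Sylow 2 G} {z u : G} (hz : z ∈ zg S) (hz1 : z ≠ 1) (hu : orderOf u = 2)
    (huS : u ∈ (S : Subgroup G)) (hne : u ≠ z) (hzT : z ∈ (T : Subgroup G))
    (huT : u ∈ (T : Subgroup G)) : T = S :=
  (h S T z u (twoCentral_of_mem hz hz1) hu hne (zg_commute hz huS) (zg_le S hz) huS hzT huT).symm

/-- An element keeping such a pair inside `S` normalises `S`. -/
theorem mem_normalizer_of_pair {S : Sylow 2 G} {z u g : G} (hz : z ∈ zg S) (hz1 : z ≠ 1)
    (hu : orderOf u = 2) (huS : u ∈ (S : Subgroup G)) (hne : u ≠ z)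
    (hgz : g * z * g⁻¹ ∈ (S : Subgroup G)) (hgu : g * u * g⁻¹ ∈ (S : Subgroup G)) :
    g ∈ normalizer ((S : Subgroup G) : Set G) := by
  have e := eq_of_mem h (T := g⁻¹ • S) hz hz1 hu huS hne
    (mem_smul_sylow.2 (by rwa [inv_inv])) (mem_smul_sylow.2 (by rwa [inv_inv]))
  simpa using inv_mem (Sylow.smul_eq_iff_mem_normalizer.1 e)

/-- The common centraliser of such a pair normalises `S`. -/
theorem centralizer_pair_le {S : Sylow 2 G} {z u : G} (hz : z ∈ zg S) (hz1 : z ≠ 1)
    (hu : orderOf u = 2) (huS : u ∈ (S : Subgroup G)) (hne : u ≠ z) :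
    centralizer ({z} : Set G) ⊓ centralizer ({u} : Set G) ≤ normalizer ((S : Subgroup G) : Set G) :=
  fun g hg => mem_normalizer_of_pair h hz hz1 hu huS hne
    (by rw [mem_centralizer_singleton_iff.1 hg.1, mul_inv_cancel_right]; exact zg_le S hz)
    (by rw [mem_centralizer_singleton_iff.1 hg.2, mul_inv_cancel_right]; exact huS)

omit h

/-- What is asked of a group with Sylow 2-subgroups of `PSU(3, 4)` type (gap G1): the odd core of the
centraliser of a 2-central involution normalises the Sylow subgroup. -/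
def CoreInNormalizer (G : Type*) [Group G] : Prop :=
  ∀ (F : Type) (_ : Field F) (_ : Fintype F), Fintype.card F = 16 →
    ∀ (P : Sylow 2 (Cfsg.PSU 3 F 4)) (S : Sylow 2 G),
      Nonempty (↥(S : Subgroup G) ≃* ↥(P : Subgroup (Cfsg.PSU 3 F 4))) → ∀ z ∈ zg S, z ≠ 1 →
        Cfsg.centralizerPPrimeCore 2 z ≤ normalizer ((S : Subgroup G) : Set G)

universe u

/-- G1: this holds in every simple group. -/
def G1 : Prop :=
  ∀ (G : Type u) [Group G] [Finite G] [IsSimpleGroup G], ¬ IsMulCommutative G → FourUnique G →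
    CoreInNormalizer G

/-- Central intersections of rank one give uniqueness. -/
theorem fourUnique_of_rankOne
    (hI : ∀ S T : Sylow 2 G, S ≠ T →
      ((S : Subgroup G) ⊓ (T : Subgroup G) = ⊥ ∨
        ∃ z ∈ (S : Subgroup G) ⊓ (T : Subgroup G), orderOf z = 2 ∧
          ∃ U : Sylow 2 G, z ∈ (Subgroup.center ↥(U : Subgroup G)).map (U : Subgroup G).subtype) →
      Cfsg.PRankLE 2 1 ↥((S : Subgroup G) ⊓ (T : Subgroup G))) : FourUnique G := by
  intro S T z u hz hu hne hc hzS huS hzT huT
  by_contra hST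
  obtain ⟨hz2, P, hzP, hcP⟩ := hz
  have hr := hI S T hST (Or.inr ⟨z, ⟨hzS, hzT⟩, hz2, P, ⟨z, hzP⟩,
    mem_center_iff.2 fun x => Subtype.ext (hcP x x.2), rfl⟩)
  set D := (S : Subgroup G) ⊓ (T : Subgroup G) with hD
  let a : D := ⟨z, hzS, hzT⟩
  let b : D := ⟨u, huS, huT⟩
  have haa : a * a = 1 := Subtype.ext (mul_self_of_orderOf_two hz2)
  have hbb : b * b = 1 := Subtype.ext (mul_self_of_orderOf_two hu)
  have hab : b * a = a * b := Subtype.ext hc
  let A : Subgroup D :=
    { carrier := {x | x = 1 ∨ x = a ∨ x = b ∨ x = a * b}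
      one_mem' := Or.inl rfl
      inv_mem' := fun {x} hx => by
        rcases hx with rfl | rfl | rfl | rfl
        · exact Or.inl inv_one
        · exact Or.inr (Or.inl (inv_eq_of_mul_eq_one_right haa))
        · exact Or.inr (Or.inr (Or.inl (inv_eq_of_mul_eq_one_right hbb)))
        · refine Or.inr (Or.inr (Or.inr ?_))
          rw [mul_inv_rev, inv_eq_of_mul_eq_one_right haa, inv_eq_of_mul_eq_one_right hbb, hab]
      mul_mem' := fun {x y} hx hy => by
        have e1 : b * (a * b) = a := by rw [← mul_assoc, hab, mul_assoc, hbb, mul_one]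
        have e2 : a * b * a = b := by rw [mul_assoc, hab, ← mul_assoc, haa, one_mul]
        have e3 : a * (a * b) = b := by rw [← mul_assoc, haa, one_mul]
        have e4 : a * b * b = a := by rw [mul_assoc, hbb, mul_one]
        have e5 : a * b * (a * b) = 1 := by rw [← mul_assoc, e2, hbb]
        rcases hx with rfl | rfl | rfl | rfl <;> rcases hy with rfl | rfl | rfl | rfl <;>
          simp [haa, hbb, hab, e1, e2, e3, e4, e5] }
  have hcomm : ∀ x ∈ A, ∀ y ∈ A, Commute x y := by
    have hba : Commute b a := hab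
    intro x hx y hy
    rcases hx with rfl | rfl | rfl | rfl <;> rcases hy with rfl | rfl | rfl | rfl <;>
      first
        | exact Commute.one_left _
        | exact Commute.one_right _
        | exact Commute.refl _
        | exact hba
        | exact hba.symm
        | exact (Commute.refl _).mul_right hba.symm
        | exact hba.mul_right (Commute.refl _)
        | exact (Commute.refl _).mul_left hba
        | exact hba.symm.mul_left (Commute.refl _)
  have hcard := hr A ⟨⟨fun x y => Subtype.ext (hcomm x x.2 y y.2)⟩⟩ fun x hx => by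
    rcases hx with rfl | rfl | rfl | rfl
    · exact one_pow 2
    · rw [pow_two, haa]
    · rw [pow_two, hbb]
    · rw [pow_two, mul_assoc, ← mul_assoc b, hab, mul_assoc a b b, hbb, mul_one, haa]
  have ha1 : a ≠ 1 := fun e => ne_one_of_orderOf_two hz2 (congrArg Subtype.val e)
  have hb1 : b ≠ 1 := fun e => ne_one_of_orderOf_two hu (congrArg Subtype.val e)
  have hba : a ≠ b := fun e => hne (congrArg Subtype.val e).symm
  have hinj : Function.Injective (![⟨1, one_mem A⟩, ⟨a, Or.inr (Or.inl rfl)⟩,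
      ⟨b, Or.inr (Or.inr (Or.inl rfl))⟩] : Fin 3 → A) := by
    intro i j e
    fin_cases i <;> fin_cases j <;> simp_all
  have := Nat.card_le_card_of_injective _ hinj
  rw [Nat.card_fin] at this
  omega

end Cfsg.Agent.Invol.CentRank
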