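import Cfsg.Prelude.Def_Sporadic
import Cfsg.Agent.S1913
import Cfsg.Agent.S2798
import Cfsg.Agent.S0205
import Cfsg.Agent.Lib.Fus.SClosedSE.Main
import Cfsg.Agent.Lib.Local.CoreConsumers.SimpleBorel
import Cfsg.Agent.Lib.Classical.PSLBinary
import Cfsg.Agent.Lib.Invol.CentRank.Basic

/-!
# Fusion in `Ω₁ Z(S)`, cores, and the strongly embedded case

In a simple group `N(S)` moves every involution of `Ω₁ Z(S)`; if the 2-rank is at least three the odd core of
such a centraliser centralises `S`; if all these centralisers lie in `N(S)`, then `N(S)` is strongly embedded.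
-/

set_option autoImplicit false
set_option linter.style.haveILetI false
set_option linter.unusedSectionVars false

open Subgroup

namespace Cfsg.Agent.Invol.CentRank

universe u

variable {G : Type u} [Group G] [Finite G]

/-- The conclusion of the classification. -/
def Concl (G : Type u) [Group G] : Prop :=
  (∃ (n : ℕ) (F : Type) (_ : Field F) (_ : Fintype F), 2 ≤ n ∧ Fintype.card F = 2 ^ n ∧
      Nonempty (G ≃* Matrix.ProjectiveSpecialLinearGroup (Fin 2) F)) ∨
  (∃ (m : ℕ) (F : Type) (_ : Field F) (_ : Fintype F), 1 ≤ m ∧ Fintype.card F = 2 ^ (2 * m + 1) ∧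
      Nonempty (G ≃* ↥(Cfsg.Lie.Sz F (2 ^ (m + 1))))) ∨
  (∃ (n : ℕ) (F : Type) (_ : Field F) (_ : Fintype F), 2 ≤ n ∧ Fintype.card F = 4 ^ n ∧
      Nonempty (G ≃* Cfsg.PSU 3 F (2 ^ n))) ∨
  (∃ (F : Type) (_ : Field F) (_ : Fintype F), (Fintype.card F % 8 = 3 ∨ Fintype.card F % 8 = 5) ∧
      5 < Fintype.card F ∧ Nonempty (G ≃* Matrix.ProjectiveSpecialLinearGroup (Fin 2) F)) ∨
  Cfsg.IsJ1 G

theorem oddCore_odd {X : Type*} [Group X] [Finite X] : Odd (Nat.card (Cfsg.pPrimeCore 2 X)) :=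
  Nat.coprime_two_right.1 (Grp.pPrimeCore_coprime (p := 2) (G := X))

theorem centralizerCore_le (z : G) : Cfsg.centralizerPPrimeCore 2 z ≤ centralizer ({z} : Set G) :=
  map_subtype_le _

theorem centralizerCore_odd (z : G) : Odd (Nat.card (Cfsg.centralizerPPrimeCore 2 z)) := by
  rw [Cfsg.centralizerPPrimeCore, card_map_of_injective (centralizer ({z} : Set G)).subtype_injective]
  exact oddCore_odd

theorem centralizer_le_normalizer_core (z : G) :
    centralizer ({z} : Set G) ≤ normalizer ((Cfsg.centralizerPPrimeCore 2 z : Subgroup G) : Set G) := by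
  haveI : (Cfsg.pPrimeCore 2 ↥(centralizer ({z} : Set G))).Normal := Grp.pPrimeCore_isNormal
  intro c hc
  refine mem_normalizer_iff.2 fun x => ?_
  constructor
  · rintro ⟨y, hy, rfl⟩
    exact ⟨⟨c, hc⟩ * y * ⟨c, hc⟩⁻¹, Normal.conj_mem inferInstance y hy ⟨c, hc⟩, rfl⟩
  · rintro ⟨y, hy, he⟩
    refine ⟨⟨c, hc⟩⁻¹ * y * ⟨c, hc⟩, by
      simpa using Normal.conj_mem inferInstance y hy (⟨c, hc⟩⁻¹ : centralizer ({z} : Set G)), ?_⟩
    have he' : (y : G) = c * x * c⁻¹ := he
    show c⁻¹ * (y : G) * c = x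
    rw [he']; group

/-- An odd group normalised by `S` and normalising `S` centralises it. -/
theorem centralizes_of_normalizer {S : Sylow 2 G} {D : Subgroup G} (hD : Odd (Nat.card D))
    (hSD : (S : Subgroup G) ≤ normalizer (D : Set G)) (hDS : D ≤ normalizer ((S : Subgroup G) : Set G))
    {d s : G} (hd : d ∈ D) (hs : s ∈ (S : Subgroup G)) : s * d = d * s := by
  have h1 : d * s * d⁻¹ * s⁻¹ ∈ D := by
    have h2 := mul_mem hd ((mem_normalizer_iff.1 (hSD hs) _).1 (inv_mem hd))
    simpa [mul_assoc] using h2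
  have h2 : d * s * d⁻¹ * s⁻¹ ∈ (S : Subgroup G) :=
    mul_mem ((mem_normalizer_iff.1 (hDS hd) _).1 hs) (inv_mem hs)
  obtain ⟨k, hk⟩ := S.isPGroup' ⟨_, h2⟩
  have hk' : (d * s * d⁻¹ * s⁻¹) ^ 2 ^ k = 1 := congrArg Subtype.val hk
  have hone : d * s * d⁻¹ * s⁻¹ = 1 := orderOf_eq_one_iff.1 <|
    Nat.eq_one_of_dvd_coprimes ((Nat.coprime_two_right.2 hD).pow_right k).symm
      (orderOf_dvd_of_pow_eq_one hk') (Subgroup.orderOf_dvd_natCard _ h1)
  calc s * d = (d * s * d⁻¹ * s⁻¹)⁻¹ * (d * s) := by group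
    _ = d * s := by rw [hone, inv_one, one_mul]

theorem exists_four_avoiding {S : Sylow 2 G} (hr : ¬ Cfsg.PRankLE 2 2 (S : Subgroup G)) (z : G) :
    ∃ a b : G, a ∈ (S : Subgroup G) ∧ b ∈ (S : Subgroup G) ∧ orderOf a = 2 ∧ orderOf b = 2 ∧ b ≠ a ∧
      b * a = a * b ∧ a ≠ z ∧ b ≠ z ∧ b * a ≠ z := by
  classical
  haveI : Fintype (S : Subgroup G) := Fintype.ofFinite _
  obtain ⟨E, hE, hE2, hEc⟩ : ∃ E : Subgroup (S : Subgroup G), IsMulCommutative E ∧
      (∀ a ∈ E, a ^ 2 = 1) ∧ 2 ^ 2 < Nat.card E := by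
    simpa [Cfsg.PRankLE] using hr
  haveI : Fintype E := Fintype.ofFinite _
  rw [Nat.card_eq_fintype_card] at hEc
  have hinv : ∀ e : E, e ≠ 1 → orderOf ((e : (S : Subgroup G)) : G) = 2 := fun e he => by
    rw [Subgroup.orderOf_coe, Subgroup.orderOf_coe]
    exact orderOf_eq_prime (Subtype.ext (hE2 _ e.2)) he
  obtain ⟨a, -, ha⟩ := Finset.exists_mem_notMem_of_card_lt_card (t := (Finset.univ : Finset E))
    (s := Finset.univ.filter fun e : E => e = 1 ∨ ((e : (S : Subgroup G)) : G) = z) (by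
      refine lt_of_le_of_lt ?_ (show 2 < (Finset.univ : Finset E).card by simpa using by omega)
      refine le_trans (Finset.card_le_card (t := {1} ∪
        Finset.univ.filter fun e : E => ((e : (S : Subgroup G)) : G) = z) fun e he => ?_) ?_
      · simpa using he
      · refine le_trans (Finset.card_union_le _ _) ?_
        rw [Finset.card_singleton]
        refine Nat.add_le_add_left (Finset.card_le_one.2 fun x hx y hy => ?_) 1
        simp only [Finset.mem_filter, Finset.mem_univ, true_and] at hx hy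
        exact Subtype.ext (Subtype.ext (hx.trans hy.symm)))
  simp only [Finset.mem_filter, Finset.mem_univ, true_and, not_or] at ha
  obtain ⟨b, -, hb⟩ := Finset.exists_mem_notMem_of_card_lt_card (t := (Finset.univ : Finset E))
    (s := ({1, a} : Finset E) ∪ Finset.univ.filter fun e : E =>
      ((e : (S : Subgroup G)) : G) = z ∨ ((e * a : E) : (S : Subgroup G)).1 = z) (by
      refine lt_of_le_of_lt (Finset.card_union_le _ _) ?_
      have h1 : (Finset.univ.filter fun e : E =>
          ((e : (S : Subgroup G)) : G) = z ∨ ((e * a : E) : (S : Subgroup G)).1 = z).card ≤ 2 := by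
        rw [Finset.filter_or]
        refine le_trans (Finset.card_union_le _ _) (Nat.add_le_add
          (Finset.card_le_one.2 fun x hx y hy => ?_) (Finset.card_le_one.2 fun x hx y hy => ?_))
        · simp only [Finset.mem_filter, Finset.mem_univ, true_and] at hx hy
          exact Subtype.ext (Subtype.ext (hx.trans hy.symm))
        · simp only [Finset.mem_filter, Finset.mem_univ, true_and] at hx hy
          exact mul_right_cancel (Subtype.ext (Subtype.ext (hx.trans hy.symm)) : x * a = y * a)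
      have h2 : ({1, a} : Finset E).card ≤ 2 := Finset.card_le_two
      simp only [Finset.card_univ]
      omega)
  simp only [Finset.mem_union, Finset.mem_insert, Finset.mem_singleton, Finset.mem_filter,
    Finset.mem_univ, true_and, not_or] at hb
  refine ⟨_, _, (a : (S : Subgroup G)).2, (b : (S : Subgroup G)).2, hinv a ha.1, hinv b hb.1.1,
    fun e => hb.1.2 (Subtype.ext (Subtype.ext e)), ?_, ha.2, hb.2.1, hb.2.2⟩
  exact congrArg (fun e : E => ((e : (S : Subgroup G)) : G)) (hE.is_comm.comm b a)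

section

variable (h : FourUnique G)
include h

/-- In 2-rank at least three the odd core of the centraliser normalises `S`. -/
theorem core_le_normalizer {S : Sylow 2 G} (hr : ¬ Cfsg.PRankLE 2 2 (S : Subgroup G)) {z : G}
    (hz : z ∈ zg S) (hz1 : z ≠ 1) :
    Cfsg.centralizerPPrimeCore 2 z ≤ normalizer ((S : Subgroup G) : Set G) := by
  obtain ⟨a, b, haS, hbS, ha, hb, hba, hc, haz, hbz, habz⟩ := exists_four_avoiding hr z
  have hn : ∀ v : G, v ∈ (S : Subgroup G) →
      v ∈ normalizer ((Cfsg.centralizerPPrimeCore 2 z : Subgroup G) : Set G) := fun v hv =>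
    centralizer_le_normalizer_core z (mem_centralizer_singleton_iff.2 (zg_commute hz hv))
  have hC : ∀ v : G, v ∈ (S : Subgroup G) → orderOf v = 2 → v ≠ z →
      Cfsg.centralizerPPrimeCore 2 z ⊓ centralizer ({v} : Set G) ≤ normalizer ((S : Subgroup G) : Set G) :=
    fun v hv hv2 hvz =>
      (inf_le_inf_right _ (centralizerCore_le z)).trans (centralizer_pair_le h hz hz1 hv2 hv hvz)
  refine Core2.le_of_four (centralizerCore_odd z) ha hb hba hc (hn a haS) (hn b hbS) (hC a haS ha haz)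
    (hC b hbS hb hbz) (hC _ (mul_mem hbS haS) ?_ habz)
  refine orderOf_two_iff.2 ⟨?_, fun e => hba ?_⟩
  · calc b * a * (b * a) = b * (a * b) * a := by group
      _ = b * (b * a) * a := by rw [hc]
      _ = (b * b) * (a * a) := by group
      _ = 1 := by rw [mul_self_of_orderOf_two ha, mul_self_of_orderOf_two hb, one_mul]
  · rw [eq_inv_of_mul_eq_one_left e, inv_of_orderOf_two ha]

/-- Fusion in `Ω₁ Z(S)` happens in `N(S)`. -/
theorem exists_normalizer_conj {S : Sylow 2 G} {x g : G} (hx : x ∈ zg S)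
    (hg : g * x * g⁻¹ ∈ (S : Subgroup G)) :
    ∃ n ∈ normalizer ((S : Subgroup G) : Set G), n * x * n⁻¹ = g * x * g⁻¹ := by
  haveI : Fact (Nat.Prime 2) := ⟨Nat.prime_two⟩
  have hy := (stronglyClosed_zg h S).2 x hx g hg
  obtain ⟨n, hn, he⟩ := Sylow.conj_eq_normalizer_conj_of_mem_centralizer S x g⁻¹
    (mem_centralizer_iff.2 fun s hs => zg_commute hx hs) (by
      rw [inv_inv]
      exact mem_centralizer_iff.2 fun s hs => zg_commute hy hs)
  exact ⟨n⁻¹, inv_mem hn, by rw [inv_inv] at he; rw [inv_inv, ← he]⟩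

/-- In a simple group `N(S)` moves every involution of `Ω₁ Z(S)`. -/
theorem exists_moving [IsSimpleGroup G] (hna : ¬ IsMulCommutative G) {S : Sylow 2 G} {z : G}
    (hz : z ∈ zg S) (hz1 : z ≠ 1) :
    ∃ n ∈ normalizer ((S : Subgroup G) : Set G), n * z * n⁻¹ ≠ z := by
  by_contra hcon
  push Not at hcon
  have hz2 := (twoCentral_of_mem hz hz1).1
  have hiso : Cfsg.IsIsolatedInvolution z := ZStar.isIsolated_of_sylow (zg_le S hz) hz2 fun g hg => by
    obtain ⟨n, hn, he⟩ := exists_normalizer_conj h hz hg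
    rw [← he, hcon n hn]
  obtain ⟨N, hN, hodd, hcm⟩ := ZStar.exists_odd_normal hiso
  rcases hN.eq_bot_or_eq_top with e | e
  · have hzc : z ∈ center G := mem_center_iff.2 fun g => by
      have h1 := mem_bot.1 (e ▸ hcm g)
      calc g * z = (z * g * z⁻¹ * g⁻¹) * g * z := by rw [h1, one_mul]
        _ = z * g := by group
    rcases (inferInstance : (center G).Normal).eq_bot_or_eq_top with ec | ec
    · exact hz1 (mem_bot.1 (ec ▸ hzc))
    · exact hna ⟨⟨fun a b => mem_center_iff.1 (ec ▸ mem_top b) a⟩⟩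
  · exact Nat.not_even_iff_odd.2 hodd (even_card_of_mem hz2 (e ▸ mem_top z))

theorem sylow_normalizer_ne_top [IsSimpleGroup G] (hna : ¬ IsMulCommutative G) {S : Sylow 2 G}
    (hne : (S : Subgroup G) ≠ ⊥) : normalizer ((S : Subgroup G) : Set G) ≠ ⊤ := fun e => by
  haveI : Fact (Nat.Prime 2) := ⟨Nat.prime_two⟩
  rcases (normalizer_eq_top_iff.1 e).eq_bot_or_eq_top with e' | e'
  · exact hne e'
  · haveI : Group.IsNilpotent G :=
      (S.isPGroup'.of_equiv ((MulEquiv.subgroupCongr e').trans topEquiv)).isNilpotent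
    exact hna ⟨⟨IsSimpleGroup.comm_iff_isSolvable.2 inferInstance⟩⟩

/-- An overgroup of `N(S)` containing the centralisers of `Ω₁ Z(S)` is strongly embedded. -/
theorem spEmbedded_of_overgroup [IsSimpleGroup G] (hna : ¬ IsMulCommutative G) {S : Sylow 2 G} {z : G}
    (hz : z ∈ zg S) (hz1 : z ≠ 1) {M : Subgroup G} (hNM : normalizer ((S : Subgroup G) : Set G) ≤ M)
    (hMt : M ≠ ⊤) (hC : ∀ a ∈ zg S, a ≠ 1 → centralizer ({a} : Set G) ≤ M) :
    Cfsg.IsStronglyPEmbedded 2 M := by
  obtain ⟨n, hn, hnz⟩ := exists_moving h hna hz hz1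
  set w := n * z * n⁻¹ with hw
  have hzS := zg_le S hz
  have hw' : w ∈ zg S := (stronglyClosed_zg h S).2 z hz n ((mem_normalizer_iff.1 hn z).1 hzS)
  have hz2 := (twoCentral_of_mem hz hz1).1
  have hw2 : orderOf w = 2 := by rw [hw, orderOf_conj_eq, hz2]
  have hyp : Fus.SClosedSE.Hyp S (zg S) M := ⟨stronglyClosed_zg h S,
    fun e => hz1 (mem_bot.1 (e ▸ hz)), hMt,
    fun a ha ha2 => hC a ha (ne_one_of_orderOf_two ha2),
    fun g hg => hNM (mem_normalizer_of_pair h hz hz1 hw2 (zg_le S hw') hnz (zg_le S (hg z hz hz2))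
      (zg_le S (hg w hw' hw2)))⟩
  have hse := Fus.SClosedSE.holds (fun P z a b H c d e => S1913.result P z a b H c d e) _ G rfl
    S (zg S) M hyp
  set K := Subgroup.normalClosure {a : G | a ∈ zg S ∧ orderOf a = 2} with hK
  have hzK : z ∈ K := subset_normalClosure ⟨hz, hz2⟩
  have hKt : K = ⊤ :=
    (((inferInstance : (Subgroup.normalClosure {a : G | a ∈ zg S ∧ orderOf a = 2}).Normal)).eq_bot_or_eq_top).resolve_left
      fun e => hz1 (mem_bot.1 (e ▸ hzK))
  have h2 : 2 ∣ Nat.card M := even_iff_two_dvd.1 (even_card_of_mem hz2 (hNM (le_normalizer hzS)))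
  have hsp : Cfsg.IsStronglyPEmbedded 2 M := isStronglyPEmbedded_iff.2
    ⟨h2, hyp.top, fun g hg hd => by
      obtain ⟨s, hs, hs2⟩ := exists_orderOf_two_mem (even_iff_two_dvd.2 hd)
      exact Fus.SClosedSE.se_elim hse (hKt.ge (mem_top g)) hg hs2 (hKt.ge (mem_top s)) hs.1
        (mem_map_conj.1 hs.2)⟩
  exact hsp

/-- If a proper subgroup over `N(S)` contains the centralisers of the involutions of `Ω₁ Z(S)`, `G` has a
strongly embedded subgroup, so is one of Bender's groups. -/
theorem concl_of_overgroup [IsSimpleGroup G] (hna : ¬ IsMulCommutative G) {S : Sylow 2 G} {z : G}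
    (hz : z ∈ zg S) (hz1 : z ≠ 1) {M : Subgroup G} (hNM : normalizer ((S : Subgroup G) : Set G) ≤ M)
    (hMt : M ≠ ⊤) (hC : ∀ a ∈ zg S, a ≠ 1 → centralizer ({a} : Set G) ≤ M) :
    Concl G := by
  have hsp := spEmbedded_of_overgroup h hna hz hz1 hNM hMt hC
  rcases (CoreConsumers.simple_borel hna hsp.1 (S2798.result _ hsp)).1 with
    ⟨F, i1, i2, n, hn2, hq, he⟩ | ⟨F, i1, i2, m, hm, hq, he⟩ | ⟨F, i1, i2, n, hn2, hq, he⟩
  · exact Or.inl ⟨n, F, i1, i2, hn2, hq, he⟩
  · exact Or.inr (Or.inl ⟨m, F, i1, i2, hm, hq, he⟩)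
  · refine Or.inr (Or.inr (Or.inl ⟨n, F, i1, i2, hn2, ?_, he⟩))
    rw [hq, ← pow_mul, mul_comm, pow_mul]
    norm_num

/-- If the centralisers of the involutions of `Ω₁ Z(S)` normalise `S`, `G` has a strongly embedded
subgroup, so is one of Bender's groups. -/
theorem concl_of_centralizers [IsSimpleGroup G] (hna : ¬ IsMulCommutative G) {S : Sylow 2 G} {z : G}
    (hz : z ∈ zg S) (hz1 : z ≠ 1)
    (hC : ∀ a ∈ zg S, a ≠ 1 → centralizer ({a} : Set G) ≤ normalizer ((S : Subgroup G) : Set G)) :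
    Concl G :=
  concl_of_overgroup h hna hz hz1 le_rfl
    (sylow_normalizer_ne_top h hna fun e => hz1 (mem_bot.1 (e ▸ zg_le S hz))) hC

end

/-- `PSL(2, 5)` is `PSL(2, 4)`. -/
theorem concl_five [IsSimpleGroup G] {F : Type} [Field F] [Fintype F] (hF : Fintype.card F = 5)
    (e : G ≃* Matrix.ProjectiveSpecialLinearGroup (Fin 2) F) : Concl G := by
  obtain ⟨f⟩ := PSLBin.psl_five_iso hF
  letI : Fintype (GaloisField 2 2) := Fintype.ofFinite _
  have h4 : Fintype.card (GaloisField 2 2) = 4 := by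
    rw [← Nat.card_eq_fintype_card, GaloisField.card 2 2 (by norm_num)]
    norm_num
  haveI : IsSimpleGroup (Matrix.ProjectiveSpecialLinearGroup (Fin 2) (GaloisField 2 2)) :=
    Classical.PSL_isSimple le_rfl fun _ => h4.ge
  obtain ⟨f'⟩ := Fus.alternating_five_of_card
    (G := Matrix.ProjectiveSpecialLinearGroup (Fin 2) (GaloisField 2 2)) (by
      have h := Classical.natCard_PSL_mul (F := GaloisField 2 2) 2 (by norm_num)
      rw [Fus.PSLTwo.natCard_SL_two, Classical.natCard_units_field, h4] at h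
      norm_num at h
      omega)
  exact Or.inl ⟨2, GaloisField 2 2, inferInstance, inferInstance, le_rfl, h4.trans (by norm_num),
    ⟨e.trans (f.trans f'.symm)⟩⟩

end Cfsg.Agent.Invol.CentRank
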