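import Cfsg.Agent.Lib.Invol.CentRank.Local
import Cfsg.Agent.Lib.Invol.CentInt.Cover
import Cfsg.Agent.Lib.Fus.TightCriterion.Models

/-!
# The action of `C(z)` on the Bender group

An automorphism centralising a Sylow 2-subgroup `P` and fixing another Sylow subgroup is trivial: `P` is
regular on the others.  So one of odd order that centralises `P` is trivial, and when `P` is abelian the
automorphisms centralising it are the inner ones from `P`.
-/

set_option autoImplicit false
set_option linter.style.haveILetI false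
set_option linter.unusedSectionVars false

open Subgroup
open scoped Pointwise

namespace Cfsg.Agent.Invol.CentRank

universe u

/-- What is used about the Sylow subgroup `P` of the simple group `B`. -/
structure Borel {B : Type u} [Group B] (P : Sylow 2 B) : Prop where
  simple : IsSimpleGroup B
  index : (normalizer ((P : Subgroup B) : Set B)).index = Nat.card (P : Subgroup B) + 1
  ti : ∀ g x : B, x ∈ (P : Subgroup B) → x ≠ 1 → g * x * g⁻¹ ∈ (P : Subgroup B) →
    g ∈ normalizer ((P : Subgroup B) : Set B)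

section

variable {B : Type u} [Group B] [Finite B] {P : Sylow 2 B} (hB : Borel P)
include hB

theorem Borel.eq_of_mem {R : Sylow 2 B} {x : B} (hx : x ∈ (P : Subgroup B)) (hx1 : x ≠ 1)
    (hxR : x ∈ (R : Subgroup B)) : R = P := by
  haveI : Fact (Nat.Prime 2) := ⟨Nat.prime_two⟩
  obtain ⟨g, rfl⟩ := MulAction.exists_smul_eq B P R
  rw [mem_smul_sylow] at hxR
  have h := inv_mem (hB.ti g⁻¹ x hx hx1 (by rwa [inv_inv]))
  rw [inv_inv] at h
  exact Sylow.smul_eq_iff_mem_normalizer.2 h

theorem Borel.card_sylow : Nat.card (Sylow 2 B) = Nat.card (P : Subgroup B) + 1 :=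
  haveI : Fact (Nat.Prime 2) := ⟨Nat.prime_two⟩
  P.card_eq_index_normalizer.trans hB.index

theorem Borel.regular {Q : Sylow 2 B} (hQ : Q ≠ P) (R : Sylow 2 B) (hR : R ≠ P) :
    ∃! p : (P : Subgroup B), (p : B) • Q = R := by
  classical
  haveI : Fact (Nat.Prime 2) := ⟨Nat.prime_two⟩
  haveI : Fintype (Sylow 2 B) := Fintype.ofFinite _
  haveI : Fintype (P : Subgroup B) := Fintype.ofFinite _
  have hne : ∀ p : (P : Subgroup B), (p : B) • Q ≠ P := fun p e => hQ <| by
    have hp : (p : B)⁻¹ • P = P := Sylow.smul_eq_iff_mem_normalizer.2 (inv_mem (le_normalizer p.2))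
    calc Q = (p : B)⁻¹ • ((p : B) • Q) := (inv_smul_smul _ _).symm
      _ = (p : B)⁻¹ • P := congrArg _ e
      _ = P := hp
  have hfree : Function.Injective fun p : (P : Subgroup B) => (⟨(p : B) • Q, hne p⟩ : {R // R ≠ P}) := by
    intro p q e
    by_contra hpq
    have e' : ((q : B)⁻¹ * p) • Q = Q := by
      rw [← smul_smul, show (p : B) • Q = (q : B) • Q from congrArg Subtype.val e, smul_smul, inv_mul_cancel,
        one_smul]
    have hd1 : ((q⁻¹ * p : (P : Subgroup B)) : B) ≠ 1 := fun h => hpq (inv_mul_eq_one.1 (Subtype.ext h)).symm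
    refine hQ (hB.eq_of_mem (q⁻¹ * p : (P : Subgroup B)).2 hd1 ?_)
    obtain ⟨k, hk⟩ := IsPGroup.iff_orderOf.1 P.isPGroup' (q⁻¹ * p)
    have hd : IsPGroup 2 (zpowers ((q : B)⁻¹ * p)) := isPGroup_zpowers (n := k) (by
      rw [← hk, ← Subgroup.orderOf_coe]; rfl)
    have hn : zpowers ((q : B)⁻¹ * p) ≤ normalizer ((Q : Subgroup B) : Set B) :=
      zpowers_le.2 (Sylow.smul_eq_iff_mem_normalizer.1 e')
    exact (Q.3 (hd.to_sup_of_normal_right' Q.isPGroup' hn) le_sup_right) ▸ mem_sup_left (mem_zpowers _)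
  have hcard : Fintype.card {R : Sylow 2 B // R ≠ P} = Fintype.card (P : Subgroup B) := by
    rw [Fintype.card_subtype_compl, Fintype.card_subtype_eq, ← Nat.card_eq_fintype_card,
      ← Nat.card_eq_fintype_card, hB.card_sylow, Nat.add_sub_cancel]
  have hbij := (Fintype.bijective_iff_injective_and_card _).2 ⟨hfree, hcard.symm⟩
  obtain ⟨p, hp⟩ := hbij.2 ⟨R, hR⟩
  exact ⟨p, congrArg Subtype.val hp, fun q hq => hbij.1 (Subtype.ext (hq.trans (congrArg Subtype.val hp).symm))⟩

theorem Borel.exists_other : ∃ Q : Sylow 2 B, Q ≠ P := by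
  haveI : Fact (Nat.Prime 2) := ⟨Nat.prime_two⟩
  by_contra h
  push Not at h
  haveI : Subsingleton (Sylow 2 B) := ⟨fun a b => (h a).trans (h b).symm⟩
  have h1 := hB.card_sylow
  rw [Nat.card_of_subsingleton P] at h1
  have := Nat.card_pos (α := (P : Subgroup B))
  omega

/-- An automorphism centralising `P` and fixing another Sylow subgroup is trivial. -/
theorem Borel.eq_one {φ : MulAut B} (hP : ∀ x ∈ (P : Subgroup B), φ x = x) {Q : Sylow 2 B} (hQ : Q ≠ P)
    (hφQ : (Q : Subgroup B).map φ.toMonoidHom = Q) : φ = 1 := by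
  haveI : Fact (Nat.Prime 2) := ⟨Nat.prime_two⟩
  haveI := hB.simple
  have hfix : ∀ R : Sylow 2 B, (R : Subgroup B).map φ.toMonoidHom = R := by
    intro R
    rcases eq_or_ne R P with rfl | hR
    · refine le_antisymm (map_le_iff_le_comap.2 fun x hx => ?_) fun x hx => ⟨x, hx, hP x hx⟩
      show φ x ∈ (R : Subgroup B)
      rwa [hP x hx]
    · obtain ⟨p, hp, -⟩ := hB.regular hQ R hR
      rw [← hp, Sylow.coe_subgroup_smul]
      ext x
      rw [mem_pointwise_smul_iff_inv_smul_mem, MulAut.smul_def, ← map_inv, MulAut.conj_apply, inv_inv]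
      constructor
      · rintro ⟨y, hy, rfl⟩
        rw [SetLike.mem_coe, mem_pointwise_smul_iff_inv_smul_mem, MulAut.smul_def, ← map_inv,
          MulAut.conj_apply, inv_inv] at hy
        rw [← hφQ]
        exact ⟨_, hy, by simp [hP _ (inv_mem p.2), hP _ p.2]⟩
      · intro hx
        rw [← hφQ] at hx
        obtain ⟨y, hy, e⟩ := hx
        refine ⟨(p : B) * y * (p : B)⁻¹, ?_, ?_⟩
        · rw [SetLike.mem_coe, mem_pointwise_smul_iff_inv_smul_mem, MulAut.smul_def, ← map_inv,
            MulAut.conj_apply, inv_inv]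
          rw [show (p : B)⁻¹ * ((p : B) * y * (p : B)⁻¹) * p = y by group]
          exact hy
        · rw [MulEquiv.coe_toMonoidHom] at e
          show φ ((p : B) * y * (p : B)⁻¹) = x
          rw [map_mul, map_mul, hP _ p.2, hP _ (inv_mem p.2), e]; group
  -- the displacement of an element normalises every Sylow subgroup
  let K : Subgroup B := (normalizer ((P : Subgroup B) : Set B)).normalCore
  have hK : K = ⊥ := (normalCore_normal _).eq_bot_or_eq_top.resolve_right fun e => by
    have h1 : normalizer ((P : Subgroup B) : Set B) = ⊤ := top_le_iff.1 (e ▸ normalCore_le _)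
    have h2 := hB.index
    rw [h1, index_top] at h2
    have := Nat.card_pos (α := (P : Subgroup B))
    omega
  refine MulEquiv.ext fun g => ?_
  have hd : g⁻¹ * φ g ∈ K := fun y => by
    obtain ⟨R, hR⟩ : ∃ R : Sylow 2 B, R = y⁻¹ • P := ⟨_, rfl⟩
    have h1 : ((φ g) • R : Sylow 2 B) = g • R := by
      refine Sylow.ext ?_
      conv_rhs => rw [← hfix (g • R)]
      rw [Sylow.coe_subgroup_smul, Sylow.coe_subgroup_smul]
      ext x
      rw [mem_pointwise_smul_iff_inv_smul_mem, MulAut.smul_def, ← map_inv, MulAut.conj_apply, inv_inv]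
      constructor
      · intro hx
        rw [← hfix R] at hx
        obtain ⟨w, hw, e⟩ := hx
        refine ⟨g * w * g⁻¹, ⟨w, hw, rfl⟩, ?_⟩
        show φ (g * w * g⁻¹) = x
        rw [MulEquiv.coe_toMonoidHom] at e
        rw [map_mul, map_mul, map_inv, e]; group
      · rintro ⟨_, ⟨w, hw, rfl⟩, rfl⟩
        rw [← hfix R]
        refine ⟨w, hw, ?_⟩
        simp [mul_assoc]
    have h2 : (y * (g⁻¹ * φ g) * y⁻¹) • P = P := by
      rw [← smul_smul, ← hR, ← smul_smul y, ← smul_smul g⁻¹, h1, inv_smul_smul, hR, smul_inv_smul]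
    exact Sylow.smul_eq_iff_mem_normalizer.1 h2
  rw [hK, mem_bot, inv_mul_eq_one] at hd
  exact hd.symm

omit hB in
theorem map_sylow_smul (φ : MulAut B) (R : Sylow 2 B) :
    ∃ R' : Sylow 2 B, (R : Subgroup B).map φ.toMonoidHom = R' := by
  haveI : Fact (Nat.Prime 2) := ⟨Nat.prime_two⟩
  exact ⟨R.mapSurjective (f := φ.toMonoidHom) φ.surjective, rfl⟩

theorem Borel.exists_translate {φ : MulAut B} (hP : ∀ x ∈ (P : Subgroup B), φ x = x) {Q : Sylow 2 B}
    (hQ : Q ≠ P) : ∃ p ∈ (P : Subgroup B),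
      (Q : Subgroup B).map φ.toMonoidHom = (Q : Subgroup B).map (MulAut.conj p).toMonoidHom := by
  haveI : Fact (Nat.Prime 2) := ⟨Nat.prime_two⟩
  obtain ⟨R, hR⟩ := map_sylow_smul φ Q
  have hRP : R ≠ P := fun e => hQ (Sylow.ext (Subgroup.map_injective (f := φ.toMonoidHom) φ.injective (by
    rw [hR, e]
    exact le_antisymm (fun x hx => ⟨x, hx, hP x hx⟩) (map_le_iff_le_comap.2 fun x hx => by
      show φ x ∈ (P : Subgroup B)
      rwa [hP x hx]))))
  obtain ⟨p, hp, -⟩ := hB.regular hQ R hRP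
  exact ⟨p, p.2, by rw [hR, ← hp, Sylow.coe_subgroup_smul]; rfl⟩

/-- An automorphism of odd order centralising `P` is trivial. -/
theorem Borel.eq_one_of_odd {φ : MulAut B} (hP : ∀ x ∈ (P : Subgroup B), φ x = x) {m : ℕ} (hm : Odd m)
    (hφ : φ ^ m = 1) : φ = 1 := by
  obtain ⟨Q, hQ⟩ := hB.exists_other
  obtain ⟨p, hp, e⟩ := hB.exists_translate hP hQ
  have hpow : ∀ j : ℕ, (Q : Subgroup B).map (φ ^ j).toMonoidHom =
      (Q : Subgroup B).map (MulAut.conj (p ^ j)).toMonoidHom := by
    intro j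
    induction j with
    | zero => rw [pow_zero, pow_zero, map_one]
    | succ j ih =>
      rw [show (φ ^ (j + 1)).toMonoidHom = φ.toMonoidHom.comp (φ ^ j).toMonoidHom from by
        ext x; simp [pow_succ'], ← map_map, ih, map_map,
        show φ.toMonoidHom.comp (MulAut.conj (p ^ j)).toMonoidHom =
          (MulAut.conj (p ^ j)).toMonoidHom.comp φ.toMonoidHom from by
            ext x
            rw [MonoidHom.comp_apply, MonoidHom.comp_apply, MulEquiv.coe_toMonoidHom, MulEquiv.coe_toMonoidHom,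
              MulAut.conj_apply, MulAut.conj_apply, map_mul, map_mul, map_inv, hP _ (pow_mem hp j)],
        ← map_map, e, map_map]
      congr 1
      ext x; simp [pow_succ, mul_assoc]
  have h1 := hpow m
  rw [hφ] at h1
  have h2 : ((⟨p ^ m, pow_mem hp m⟩ : (P : Subgroup B)) : B) • Q = ((1 : (P : Subgroup B)) : B) • Q := by
    refine Sylow.ext ?_
    rw [Sylow.coe_subgroup_smul, Sylow.coe_subgroup_smul, OneMemClass.coe_one, map_one, one_smul]
    show (Q : Subgroup B).map (MulAut.conj (p ^ m)).toMonoidHom = Q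
    rw [← h1]
    exact (Q : Subgroup B).map_id
  have hpm : p ^ m = 1 := by
    obtain ⟨R, -, hu⟩ := hB.regular hQ Q hQ
    exact congrArg Subtype.val ((hu ⟨p ^ m, pow_mem hp m⟩ (h2.trans (one_smul B Q))).trans
      (hu 1 (one_smul B Q)).symm)
  obtain ⟨k, hk⟩ := P.isPGroup' ⟨p, hp⟩
  have hp1 : p = 1 := orderOf_eq_one_iff.1 (Nat.eq_one_of_dvd_coprimes
    ((Nat.coprime_two_right.2 hm).pow_right k) (orderOf_dvd_of_pow_eq_one hpm)
    (orderOf_dvd_of_pow_eq_one (congrArg Subtype.val hk)))
  rw [hp1, map_one] at e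
  exact hB.eq_one hP hQ (e.trans (Q : Subgroup B).map_id)

/-- With `P` abelian, an automorphism centralising it is inner from `P`. -/
theorem Borel.eq_conj {φ : MulAut B} (hP : ∀ x ∈ (P : Subgroup B), φ x = x)
    (hab : ∀ x ∈ (P : Subgroup B), ∀ y ∈ (P : Subgroup B), x * y = y * x) :
    ∃ p ∈ (P : Subgroup B), φ = MulAut.conj p := by
  obtain ⟨Q, hQ⟩ := hB.exists_other
  obtain ⟨p, hp, e⟩ := hB.exists_translate hP hQ
  have h1 : (MulAut.conj p)⁻¹ * φ = 1 := by
    refine hB.eq_one (φ := (MulAut.conj p)⁻¹ * φ) (fun x hx => ?_) hQ ?_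
    · rw [MulAut.mul_apply, hP x hx, ← map_inv, MulAut.conj_apply, hab _ (inv_mem hp) x hx, mul_inv_cancel_right]
    · rw [show ((MulAut.conj p)⁻¹ * φ).toMonoidHom = (MulAut.conj p)⁻¹.toMonoidHom.comp φ.toMonoidHom from rfl,
        ← map_map, e, map_map]
      convert (Q : Subgroup B).map_id using 2
      ext x; simp [mul_assoc]
  exact ⟨p, hp, (inv_mul_eq_one.1 h1).symm⟩

end

variable {G : Type u} [Group G] [Finite G] {S : Sylow 2 G} {z : G} {B : Type u} [Group B] [Finite B]
  (c : Cover S z B)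
include c

theorem Cover.borel (h : FourUnique G) : Borel c.sylP :=
  ⟨c.bender.isSimple, (Fus.Tight.data_of_bender c.bender).2.2 c.sylP, fun _ _ hx hx1 hg => c.ti h hx hx1 hg⟩

theorem Cover.conj_ker {m : G} (hm : m ∈ centralizer ({z} : Set G)) {k : ↥(conjClosure S z)}
    (hk : c.π k = 1) : c.π ⟨m * k * m⁻¹, conjClosure_conj hm k.2⟩ = 1 := by
  obtain ⟨o, ho, e⟩ := c.ker k hk
  have ho' : m * o * m⁻¹ ∈ Cfsg.centralizerPPrimeCore 2 z :=
    (mem_normalizer_iff.1 (centralizer_le_normalizer_core z hm) o).1 ho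
  have hzm : m * z * m⁻¹ = z := by rw [mem_centralizer_singleton_iff.1 hm, mul_inv_cancel_right]
  have hzK := zg_le_conjClosure S z c.hz
  rcases e with e | e
  · exact c.ker_core _ (show m * (k : G) * m⁻¹ ∈ _ by rwa [e])
  · have hK : m * o * m⁻¹ ∈ conjClosure S z := by
      have h1 := mul_mem (conjClosure_conj hm k.2) (inv_mem hzK)
      rwa [e, show m * (o * z) * m⁻¹ * z⁻¹ = (m * o * m⁻¹) * ((m * z * m⁻¹) * z⁻¹) by group, hzm,
        mul_inv_cancel, mul_one] at h1
    have e' : (⟨m * k * m⁻¹, conjClosure_conj hm k.2⟩ : ↥(conjClosure S z)) = ⟨_, hK⟩ * ⟨z, hzK⟩ := by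
      refine Subtype.ext ?_
      show m * (k : G) * m⁻¹ = m * o * m⁻¹ * z
      rw [e, show m * (o * z) * m⁻¹ = (m * o * m⁻¹) * (m * z * m⁻¹) by group, hzm]
    rw [e', map_mul, c.ker_core ⟨_, hK⟩ ho', c.ker_z ⟨z, hzK⟩ rfl, mul_one]

theorem Cover.conj_congr {m : G} (hm : m ∈ centralizer ({z} : Set G)) {k l : ↥(conjClosure S z)}
    (e : c.π k = c.π l) :
    c.π ⟨m * k * m⁻¹, conjClosure_conj hm k.2⟩ = c.π ⟨m * l * m⁻¹, conjClosure_conj hm l.2⟩ := by
  have h1 := c.conj_ker hm (k := k * l⁻¹) (by rw [map_mul, map_inv, e, mul_inv_cancel])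
  rw [show (⟨m * ((k * l⁻¹ : ↥(conjClosure S z)) : G) * m⁻¹, conjClosure_conj hm (k * l⁻¹).2⟩ :
    ↥(conjClosure S z)) = ⟨m * k * m⁻¹, conjClosure_conj hm k.2⟩ * ⟨m * l * m⁻¹, conjClosure_conj hm l.2⟩⁻¹
    from Subtype.ext (by simp [mul_assoc]), map_mul, map_inv, mul_inv_eq_one] at h1
  exact h1

/-- The action of an element of `C(z)` on `B`. -/
noncomputable def Cover.actFun (m : ↥(centralizer ({z} : Set G))) (b : B) : B :=
  c.π ⟨m * (c.surj b).choose * (m : G)⁻¹, conjClosure_conj m.2 (c.surj b).choose.2⟩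

theorem Cover.actFun_π (m : ↥(centralizer ({z} : Set G))) (k : ↥(conjClosure S z)) :
    c.actFun m (c.π k) = c.π ⟨m * k * (m : G)⁻¹, conjClosure_conj m.2 k.2⟩ :=
  c.conj_congr m.2 (c.surj (c.π k)).choose_spec

theorem Cover.actFun_mul (m n : ↥(centralizer ({z} : Set G))) (b : B) :
    c.actFun (m * n) b = c.actFun m (c.actFun n b) := by
  obtain ⟨k, rfl⟩ := c.surj b
  rw [c.actFun_π, c.actFun_π, c.actFun_π]
  exact congrArg c.π (Subtype.ext (by simp [mul_assoc]))

theorem Cover.actFun_one (b : B) : c.actFun 1 b = b := by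
  obtain ⟨k, rfl⟩ := c.surj b
  rw [c.actFun_π]
  exact congrArg c.π (Subtype.ext (by simp))

/-- The action of `C(z)` on `B`. -/
noncomputable def Cover.act : ↥(centralizer ({z} : Set G)) →* MulAut B where
  toFun m :=
    { toFun := c.actFun m
      invFun := c.actFun m⁻¹
      left_inv := fun b => by rw [← c.actFun_mul, inv_mul_cancel, c.actFun_one]
      right_inv := fun b => by rw [← c.actFun_mul, mul_inv_cancel, c.actFun_one]
      map_mul' := fun a b => by
        obtain ⟨k, rfl⟩ := c.surj a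
        obtain ⟨l, rfl⟩ := c.surj b
        rw [← map_mul, c.actFun_π, c.actFun_π, c.actFun_π, ← map_mul]
        exact congrArg c.π (Subtype.ext (by simp [mul_assoc])) }
  map_one' := MulEquiv.ext c.actFun_one
  map_mul' m n := MulEquiv.ext (c.actFun_mul m n)

theorem Cover.act_π (m : ↥(centralizer ({z} : Set G))) (k : ↥(conjClosure S z)) :
    c.act m (c.π k) = c.π ⟨m * k * (m : G)⁻¹, conjClosure_conj m.2 k.2⟩ := c.actFun_π m k

/-- An element of `K` acts as conjugation by its image. -/
theorem Cover.act_mem {m : ↥(centralizer ({z} : Set G))} (hm : (m : G) ∈ conjClosure S z) :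
    c.act m = MulAut.conj (c.π ⟨m, hm⟩) := by
  refine MulEquiv.ext fun b => ?_
  obtain ⟨k, rfl⟩ := c.surj b
  rw [c.act_π, MulAut.conj_apply, ← map_inv, ← map_mul, ← map_mul]
  exact congrArg c.π (Subtype.ext (by simp))

/-- `z` is the only involution of `S` acting trivially. -/
theorem Cover.eq_z_of_act (h : FourUnique G) {u : ↥(centralizer ({z} : Set G))}
    (huS : (u : G) ∈ (S : Subgroup G)) (hu : orderOf (u : G) = 2) (hact : c.act u = 1) : (u : G) = z := by
  by_contra hne
  have hk : ∀ k : ↥(conjClosure S z), (k : G) ∈ normalizer ((S : Subgroup G) : Set G) := by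
    intro k
    obtain ⟨o, ho, e⟩ := c.ker (⟨(u : G) * k * (u : G)⁻¹, conjClosure_conj u.2 k.2⟩ * k⁻¹) (by
      rw [map_mul, map_inv, ← c.act_π, hact, MulAut.one_apply, mul_inv_cancel])
    rw [Subgroup.coe_mul, InvMemClass.coe_inv] at e
    have huu := mul_self_of_orderOf_two hu
    have huo : Commute (u : G) o := centralizes_of_normalizer (centralizerCore_odd z)
      (fun v hv => centralizer_le_normalizer_core z (c.sylow_le hv)) c.core ho huS
    have huz : Commute (u : G) z := zg_commute c.hz huS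
    -- `k u k⁻¹ = u w` with `w = o` or `o z`
    obtain ⟨w, hw, hkw⟩ : ∃ w, (w = o ∨ w = o * z) ∧ (k : G) * u * (k : G)⁻¹ = u * w := by
      refine ⟨_, e, ?_⟩
      have h1 : (u : G)⁻¹ = u := inv_of_orderOf_two hu
      calc (k : G) * u * (k : G)⁻¹ = (u * u) * ((k : G) * u * (k : G)⁻¹) := by rw [huu, one_mul]
        _ = u * ((u : G) * k * (u : G)⁻¹ * (k : G)⁻¹) := by rw [h1]; group
    have huw : Commute (u : G) w := by
      rcases hw with rfl | rfl
      · exact huo
      · exact huo.mul_right huz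
    have hw2 : w * w = 1 := by
      have h1 : ((k : G) * u * (k : G)⁻¹) ^ 2 = 1 := by rw [conj_pow, pow_two, huu, mul_one, mul_inv_cancel]
      rwa [hkw, huw.mul_pow, pow_two, huu, one_mul, pow_two] at h1
    have hwS : w ∈ (S : Subgroup G) := by
      have ho1 : o = 1 := by
        have hzz := (mem_zg.1 c.hz).2.1
        have hoz : Commute z o := (mem_centralizer_singleton_iff.1 (centralizerCore_le z ho)).symm
        have ho2 : o * o = 1 := by
          rcases hw with rfl | rfl
          · exact hw2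
          · calc o * o = o * o * (z * z) := by rw [hzz, mul_one]
              _ = o * (o * z) * z := by group
              _ = o * (z * o) * z := by rw [hoz.eq]
              _ = o * z * (o * z) := by group
              _ = 1 := hw2
        exact orderOf_eq_one_iff.1 (Nat.eq_one_of_dvd_coprimes (Nat.coprime_two_right.2 (centralizerCore_odd z))
          (Subgroup.orderOf_dvd_natCard _ ho) (orderOf_dvd_of_pow_eq_one (by rw [pow_two, ho2])))
      rcases hw with rfl | rfl <;> simp [ho1, zg_le S c.hz]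
    refine mem_normalizer_of_pair h c.hz c.hz1 hu huS hne ?_ (hkw ▸ mul_mem huS hwS)
    rw [mem_centralizer_singleton_iff.1 (conjClosure_le c.hz k.2), mul_inv_cancel_right]
    exact zg_le S c.hz
  have htop : normalizer ((c.sylP : Subgroup B) : Set B) = ⊤ := eq_top_iff.2 fun b _ => by
    obtain ⟨k, rfl⟩ := c.surj b
    exact c.map_normalizer h (hk k)
  have h1 := (c.borel h).index
  rw [htop, index_top] at h1
  have := Nat.card_pos (α := (c.sylP : Subgroup B))
  omega

end Cfsg.Agent.Invol.CentRank
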