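import Cfsg.Agent.Lib.Invol.CentRank.Fusion

/-!
# A normal subgroup of odd order over a central involution

If a normal subgroup `N` contains the central involution `u` with `N / ⟨u⟩` of odd order, then `N` is the
product of `⟨u⟩` and a part of the odd core.
-/

set_option autoImplicit false
set_option linter.style.haveILetI false
set_option linter.unusedSectionVars false

open Subgroup
open scoped IsMulCommutative

namespace Cfsg.Agent.Invol.CentRank

universe u

variable {X : Type u} [Group X] [Finite X]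

theorem eq_or_of_mem_zpowers {u x : X} (hu : orderOf u = 2) (hx : x ∈ zpowers u) : x = 1 ∨ x = u := by
  obtain ⟨k, rfl⟩ := mem_zpowers_iff.1 hx
  rw [← zpow_mod_orderOf, hu]
  rcases Int.emod_two_eq_zero_or_one k with e | e <;> rw [Nat.cast_ofNat, e]
  · exact Or.inl (zpow_zero u)
  · exact Or.inr (zpow_one u)

theorem exists_core_mul {u : X} (huc : ∀ g : X, g * u = u * g) (hu : orderOf u = 2)
    {N : Subgroup X} [N.Normal] (huN : u ∈ N) {m : ℕ} (hm : Odd m)
    (hidx : ((zpowers u).subgroupOf N).index = m) {y : X} (hy : y ∈ N) :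
    ∃ o ∈ Cfsg.pPrimeCore 2 X, y = o ∨ y = o * u := by
  set Zu := (zpowers u).subgroupOf N with hZu
  have hcen : ∀ w : N, w ∈ Zu → ∀ g : N, g * w = w * g := fun w hw g => by
    refine Subtype.ext ?_
    rcases eq_or_of_mem_zpowers hu (mem_subgroupOf.1 hw) with e | e <;> simp [e, huc]
  haveI : IsMulCommutative Zu := ⟨⟨fun a b => Subtype.ext (hcen b b.2 a)⟩⟩
  have key : ∀ g : N, ∀ (k : ℕ) (g₀ : N), g₀⁻¹ * g ^ k * g₀ ∈ Zu → g₀⁻¹ * g ^ k * g₀ = g ^ k := by
    intro g k g₀ hk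
    have e := hcen _ hk g₀
    calc g₀⁻¹ * g ^ k * g₀ = g₀⁻¹ * (g₀⁻¹ * g ^ k * g₀ * g₀) := by rw [← e]; group
      _ = g₀⁻¹ * (g₀ * (g₀⁻¹ * g ^ k * g₀)) := by rw [e]
      _ = g₀⁻¹ * g ^ k * g₀ := by group
      _ = g ^ k := by
        have : g₀ * (g₀⁻¹ * g ^ k * g₀) * g₀⁻¹ = g₀⁻¹ * g ^ k * g₀ := by rw [e, mul_inv_cancel_right]
        rw [← this]; group
  have hphi : ∀ a b : N, (a * b) ^ m = a ^ m * b ^ m := by
    intro a b
    let ϕ := MonoidHom.transfer (H := Zu) (MonoidHom.id Zu)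
    have hv : ∀ g : N, ((ϕ g : Zu) : N) = g ^ m := fun g => by
      show ((MonoidHom.transfer (MonoidHom.id Zu) g : Zu) : N) = _
      rw [MonoidHom.transfer_eq_pow (MonoidHom.id Zu) g (key g), MonoidHom.id_apply]
      show g ^ Zu.index = g ^ m
      rw [hidx]
    rw [← hv, ← hv, ← hv, map_mul, Subgroup.coe_mul]
  let N0 : Subgroup X :=
    { carrier := {x | x ∈ N ∧ x ^ m = 1}
      one_mem' := ⟨one_mem N, one_pow m⟩
      mul_mem' := fun {a b} ha hb => ⟨mul_mem ha.1 hb.1, by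
        have e := congrArg Subtype.val (hphi ⟨a, ha.1⟩ ⟨b, hb.1⟩)
        simp only [SubmonoidClass.coe_pow, Subgroup.coe_mul] at e
        rw [e, ha.2, hb.2, one_mul]⟩
      inv_mem' := fun {a} ha => ⟨inv_mem ha.1, by rw [inv_pow, ha.2, inv_one]⟩ }
  haveI hN0 : N0.Normal :=
    ⟨fun x hx g => ⟨Normal.conj_mem inferInstance x hx.1 g, by rw [conj_pow, hx.2, mul_one, mul_inv_cancel]⟩⟩
  have hodd : (Nat.card N0).Coprime 2 := by
    refine Nat.coprime_two_right.2 (Nat.not_even_iff_odd.1 fun he => ?_)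
    obtain ⟨t, ht, ht2⟩ := exists_orderOf_two_mem he
    have := orderOf_dvd_of_pow_eq_one ht.2
    rw [ht2] at this
    exact Nat.not_even_iff_odd.2 hm (even_iff_two_dvd.2 this)
  have hle : N0 ≤ Cfsg.pPrimeCore 2 X := Grp.le_pPrimeCore hN0 hodd
  have hmem : (⟨y, hy⟩ : N) ^ m ∈ Zu := hidx ▸ MonoidHom.transfer_eq_pow_aux (⟨y, hy⟩ : N) (key _)
  have huu := mul_self_of_orderOf_two hu
  rcases eq_or_of_mem_zpowers hu (mem_subgroupOf.1 hmem) with e | e
  · rw [SubmonoidClass.coe_pow] at e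
    exact ⟨y, hle ⟨hy, e⟩, Or.inl rfl⟩
  · rw [SubmonoidClass.coe_pow] at e
    refine ⟨y * u, hle ⟨mul_mem hy huN, ?_⟩, Or.inr (by rw [mul_assoc, huu, mul_one])⟩
    obtain ⟨j, hj⟩ := hm
    have hum : u ^ m = u := by rw [hj, pow_succ, pow_mul, pow_two, huu, one_pow, one_mul]
    rw [(show Commute y u from huc y).mul_pow, e, hum, huu]

end Cfsg.Agent.Invol.CentRank
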