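import Cfsg.Agent.Lib.Invol.CentRank.Orbit
import Cfsg.Agent.Lib.Invol.CentRank.Action
import Cfsg.Agent.Lib.Invol.CentRank.Models

/-!
# Common facts about the cover

The Bender group has at most three involutions in its Sylow subgroup; the kernel is central; lifts of elements of
odd prime power order.
-/

set_option autoImplicit false
set_option linter.style.haveILetI false
set_option linter.unusedSectionVars false

open Subgroup

namespace Cfsg.Agent.Invol.CentRank

universe u

variable {G : Type u} [Group G] [Finite G] {S : Sylow 2 G} {z : G} {B : Type u} [Group B] [Finite B]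
  (c : Cover S z B)
include c

theorem Cover.ncard_sq_one [IsSimpleGroup G] (h : FourUnique G) (hna : ¬ IsMulCommutative G) :
    {x | x ∈ (c.sylP : Subgroup B) ∧ x * x = 1}.ncard ≤ 4 := by
  let f : ↥(zg S) →* B := c.π.comp (Subgroup.inclusion (zg_le_conjClosure S z))
  have hle : {x | x ∈ (c.sylP : Subgroup B) ∧ x * x = 1} ⊆ (f.range : Set B) := by
    rintro x ⟨hx, hx2⟩
    by_cases h1 : x = 1
    · exact h1 ▸ one_mem f.range
    obtain ⟨a, ha, -, -, a', rfl, e⟩ := c.exists_zg h hx (orderOf_two_iff.2 ⟨hx2, h1⟩)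
    exact ⟨⟨a', ha⟩, by rw [← e]; exact congrArg c.π (Subtype.ext rfl)⟩
  have h1 := f.ker.card_mul_index
  rw [Subgroup.index_ker, c.card_zg h hna] at h1
  have h2 : 2 ≤ Nat.card f.ker := by
    refine (one_lt_card_iff_ne_bot _).2 fun e => c.hz1 ?_
    have hmem : (⟨z, c.hz⟩ : ↥(zg S)) ∈ f.ker := c.ker_z ⟨z, zg_le_conjClosure S z c.hz⟩ rfl
    rw [e, mem_bot] at hmem
    exact congrArg Subtype.val hmem
  refine (Set.ncard_le_ncard hle (Set.toFinite _)).trans ?_
  show Nat.card f.range ≤ 4
  by_contra hlt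
  have h3 : 2 * Nat.card f.range ≤ Nat.card f.ker * Nat.card f.range := Nat.mul_le_mul_right _ h2
  omega

theorem Cover.two_cases [IsSimpleGroup G] (h : FourUnique G) (hna : ¬ IsMulCommutative G) :
    (Nat.card B = 60 ∧ Nat.card (c.sylP : Subgroup B) = 4) ∨ UnitData (c.sylP : Subgroup B) :=
  small_bender c.bender c.sylP (c.ncard_sq_one h hna)

theorem Cover.center_B : center B = ⊥ := by
  haveI := c.bender.isSimple
  refine (inferInstance : (center B).Normal).eq_bot_or_eq_top.resolve_right fun e => ?_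
  obtain ⟨a, b, hab⟩ := c.bender.not_comm
  exact hab (mem_center_iff.1 (e ▸ mem_top b : b ∈ center B) a)

theorem Cover.conj_eq_one {b : B} (hb : MulAut.conj b = 1) : b = 1 := by
  have hc : b ∈ center B := mem_center_iff.2 fun g => by
    have e := DFunLike.congr_fun hb g
    rw [MulAut.conj_apply, MulAut.one_apply, mul_inv_eq_iff_eq_mul] at e
    exact e.symm
  rwa [c.center_B, mem_bot] at hc

theorem Cover.ker_le_center : c.π.ker ≤ center ↥(conjClosure S z) := by
  intro k hk
  obtain ⟨o, ho, e⟩ := c.ker k (MonoidHom.mem_ker.1 hk)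
  refine mem_center_iff.2 fun g => Subtype.ext ?_
  show (g : G) * k = k * g
  have hgo : Commute (g : G) o := commute_core c.hz c.core ho g.2
  rcases e with e | e <;> rw [e]
  · exact hgo
  · exact hgo.mul_right (mem_centralizer_singleton_iff.1 (conjClosure_le c.hz g.2))

theorem Cover.gen : Cfsg.pElementClosure 2 (⊤ : Subgroup ↥(conjClosure S z)) = ⊤ := by
  refine eq_top_iff.2 ?_
  rintro ⟨x, hx⟩ -
  induction hx using closure_induction with
  | mem y hy =>
    obtain ⟨d, hd, a, ha, rfl⟩ := hy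
    refine subset_closure ⟨mem_top _, ?_⟩
    by_cases h1 : a = 1
    · exact ⟨0, by rw [pow_zero, orderOf_eq_one_iff]; exact Subtype.ext (by simp [h1])⟩
    · exact ⟨1, by rw [pow_one, ← Subgroup.orderOf_coe]; show orderOf (d * a * d⁻¹) = 2; rw [orderOf_conj_eq, (twoCentral_of_mem ha h1).1]⟩
  | one => exact one_mem _
  | mul y w hy hw ey ew => exact mul_mem ey ew
  | inv y hy ey => exact inv_mem ey

/-- An element of `B` of order a power of five lifts to one. -/
theorem Cover.lift_five {b : B} {i : ℕ} (hb : b ^ 5 ^ i = 1) :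
    ∃ (k : ↥(conjClosure S z)) (j : ℕ), c.π k = b ∧ (k : G) ^ 5 ^ j = 1 := by
  obtain ⟨k, rfl⟩ := c.surj b
  obtain ⟨a, m, hm, hord⟩ := Nat.exists_eq_pow_mul_and_not_dvd (orderOf_pos (k : G)).ne' 5 (by norm_num)
  have hco : m.Coprime (5 ^ (i + 1)) :=
    (((Nat.Prime.coprime_iff_not_dvd (by norm_num : Nat.Prime 5)).2 hm).symm).pow_right _
  obtain ⟨e, -, he⟩ := Nat.exists_mul_mod_eq_one_of_coprime hco (Nat.one_lt_pow (by omega) (by norm_num))
  refine ⟨k ^ (m * e), a, ?_, ?_⟩
  · rw [map_pow, ← Nat.mod_add_div (m * e) (5 ^ (i + 1)), he, pow_add, pow_one,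
      show 5 ^ (i + 1) * (m * e / 5 ^ (i + 1)) = 5 ^ i * (5 * (m * e / 5 ^ (i + 1))) by ring, pow_mul, hb,
      one_pow, mul_one]
  · rw [SubmonoidClass.coe_pow, ← pow_mul, show m * e * 5 ^ a = 5 ^ a * m * e by ring, ← hord, pow_mul,
      pow_orderOf_eq_one, one_pow]

end Cfsg.Agent.Invol.CentRank
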