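import Cfsg.Agent.Lib.Invol.CentRank.Central
import Cfsg.Agent.Lib.Invol.CentInt.Strong

/-!
# A centraliser outside `N(S)`: the Bender cover

If `C(z)` is not in `N(S)`, the conjugates of `Ω₁ Z(S)` under `C(z)` generate a central extension of one
of Bender's groups.
-/

set_option autoImplicit false
set_option linter.style.haveILetI false
set_option linter.unusedSectionVars false

open Subgroup

namespace Cfsg.Agent.Invol.CentRank

universe u

variable {G : Type u} [Group G] [Finite G]

/-- The group generated by the conjugates of `Ω₁ Z(S)` under `C(z)`. -/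
def conjClosure (S : Sylow 2 G) (z : G) : Subgroup G :=
  closure {x | ∃ c ∈ centralizer ({z} : Set G), ∃ a ∈ zg S, c * a * c⁻¹ = x}

theorem conjClosure_le {S : Sylow 2 G} {z : G} (hz : z ∈ zg S) :
    conjClosure S z ≤ centralizer ({z} : Set G) := by
  refine (closure_le _).2 ?_
  rintro _ ⟨c, hc, a, ha, rfl⟩
  exact mul_mem (mul_mem hc (mem_centralizer_singleton_iff.2 (zg_commute hz (zg_le S ha)))) (inv_mem hc)

theorem conjClosure_conj {S : Sylow 2 G} {z c x : G} (hc : c ∈ centralizer ({z} : Set G))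
    (hx : x ∈ conjClosure S z) : c * x * c⁻¹ ∈ conjClosure S z := by
  induction hx using closure_induction with
  | mem y hy =>
    obtain ⟨d, hd, a, ha, rfl⟩ := hy
    exact subset_closure ⟨c * d, mul_mem hc hd, a, ha, by group⟩
  | one => simp
  | mul y w _ _ hy hw =>
    rw [show c * (y * w) * c⁻¹ = (c * y * c⁻¹) * (c * w * c⁻¹) by group]
    exact mul_mem hy hw
  | inv y _ hy =>
    rw [show c * y⁻¹ * c⁻¹ = (c * y * c⁻¹)⁻¹ by group]
    exact inv_mem hy

theorem zg_le_conjClosure (S : Sylow 2 G) (z : G) : zg S ≤ conjClosure S z := fun a ha =>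
  subset_closure ⟨1, one_mem _, a, ha, by group⟩

/-- `C(z)` is not in `N(S)`, though its odd core is; `π` is the map onto a Bender group. -/
structure Cover (S : Sylow 2 G) (z : G) (B : Type u) [Group B] where
  π : ↥(conjClosure S z) →* B
  hz : z ∈ zg S
  hz1 : z ≠ 1
  core : Cfsg.centralizerPPrimeCore 2 z ≤ normalizer ((S : Subgroup G) : Set G)
  surj : Function.Surjective π
  bender : CentInt.IsBenderGrp B
  ker : ∀ k, π k = 1 → ∃ o ∈ Cfsg.centralizerPPrimeCore 2 z, (k : G) = o ∨ (k : G) = o * z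
  ker_z : ∀ k : ↥(conjClosure S z), (k : G) = z → π k = 1
  ker_core : ∀ k : ↥(conjClosure S z), (k : G) ∈ Cfsg.centralizerPPrimeCore 2 z → π k = 1

/-- The odd core of `C(z)` commutes with the generators. -/
theorem commute_core {S : Sylow 2 G} {z : G} (hz : z ∈ zg S)
    (hcore : Cfsg.centralizerPPrimeCore 2 z ≤ normalizer ((S : Subgroup G) : Set G)) {o k : G}
    (ho : o ∈ Cfsg.centralizerPPrimeCore 2 z) (hk : k ∈ conjClosure S z) : k * o = o * k := by
  have hle : conjClosure S z ≤ centralizer ({o} : Set G) := by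
    refine (closure_le _).2 ?_
    rintro _ ⟨c, hc, a, ha, rfl⟩
    refine mem_centralizer_singleton_iff.2 ?_
    have hSC : (S : Subgroup G) ≤ normalizer ((Cfsg.centralizerPPrimeCore 2 z : Subgroup G) : Set G) :=
      fun v hv => centralizer_le_normalizer_core z (mem_centralizer_singleton_iff.2 (zg_commute hz hv))
    have ho' : c⁻¹ * o * c ∈ Cfsg.centralizerPPrimeCore 2 z := by
      have := (mem_normalizer_iff.1 (centralizer_le_normalizer_core z (inv_mem hc)) o).1 ho
      rwa [inv_inv] at this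
    have e := centralizes_of_normalizer (centralizerCore_odd z) hSC hcore ho' (zg_le S ha)
    calc c * a * c⁻¹ * o = c * (a * (c⁻¹ * o * c)) * c⁻¹ := by group
      _ = c * ((c⁻¹ * o * c) * a) * c⁻¹ := by rw [e]
      _ = o * (c * a * c⁻¹) := by group
  exact mem_centralizer_singleton_iff.1 (hle hk)

variable (h : FourUnique G)
include h

theorem exists_cover {S : Sylow 2 G} {z : G} (hz : z ∈ zg S) (hz1 : z ≠ 1)
    (hcore : Cfsg.centralizerPPrimeCore 2 z ≤ normalizer ((S : Subgroup G) : Set G))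
    (hC : ¬ centralizer ({z} : Set G) ≤ normalizer ((S : Subgroup G) : Set G)) {a₀ : G}
    (ha₀ : a₀ ∈ zg S) (ha₀1 : a₀ ≠ 1) (ha₀z : a₀ ≠ z) :
    ∃ (B : Type u) (_ : Group B) (_ : Finite B), Nonempty (Cover S z B) := by
  haveI : Fact (Nat.Prime 2) := ⟨Nat.prime_two⟩
  set C := centralizer ({z} : Set G) with hCdef
  set N := normalizer ((S : Subgroup G) : Set G) with hN
  have hz2 := (twoCentral_of_mem hz hz1).1
  have hzC : z ∈ C := mem_centralizer_singleton_iff.2 rfl
  have hSC : (S : Subgroup G) ≤ C := fun s hs => mem_centralizer_singleton_iff.2 (zg_commute hz hs)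
  let zC : C := ⟨z, hzC⟩
  have hzC2 : orderOf zC = 2 := by rw [Subgroup.orderOf_mk, hz2]
  have hzcen : ∀ g : C, g * zC = zC * g := fun g => Subtype.ext (mem_centralizer_singleton_iff.1 g.2)
  haveI hZn : (zpowers zC).Normal := ⟨fun x hx g => by
    rcases eq_or_of_mem_zpowers hzC2 hx with rfl | rfl
    · simp
    · rw [hzcen g, mul_inv_cancel_right]; exact mem_zpowers _⟩
  let π₀ : C →* C ⧸ zpowers zC := QuotientGroup.mk' _
  have hπ₀ : Function.Surjective π₀ := QuotientGroup.mk'_surjective _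
  -- equality in the quotient
  have heq : ∀ a b : C, π₀ a = π₀ b → (a : G) = b ∨ (a : G) = b * z := by
    intro a b e
    rcases eq_or_of_mem_zpowers hzC2 (QuotientGroup.eq.1 e.symm) with e' | e'
    · exact Or.inl (congrArg Subtype.val (inv_mul_eq_one.1 e').symm)
    · exact Or.inr (congrArg Subtype.val (inv_mul_eq_iff_eq_mul.1 e'))
  have hπz : π₀ zC = 1 := (QuotientGroup.eq_one_iff zC).2 (mem_zpowers _)
  set A := ((zg S).subgroupOf C).map π₀ with hA
  set H := (N.subgroupOf C).map π₀ with hH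
  let P : Sylow 2 (C ⧸ zpowers zC) := (S.subtype hSC).mapSurjective hπ₀
  have hHmem : ∀ c : C, π₀ c ∈ H → (c : G) ∈ N := by
    rintro c ⟨d, hd, e⟩
    rcases heq c d e.symm with e' | e'
    · rw [e']; exact hd
    · rw [e']; exact mul_mem hd (le_normalizer (zg_le S hz))
  have hlift : ∀ x ∈ A, orderOf x = 2 →
      ∃ a : C, π₀ a = x ∧ (a : G) ∈ zg S ∧ orderOf (a : G) = 2 ∧ (a : G) ≠ z := by
    rintro _ ⟨a, ha, rfl⟩ h2
    have hne : (a : G) ≠ 1 := fun e => by
      rw [show a = 1 from Subtype.ext e, map_one, orderOf_one] at h2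
      omega
    refine ⟨a, rfl, ha, (twoCentral_of_mem ha hne).1, fun e => ?_⟩
    rw [show a = zC from Subtype.ext e, hπz, orderOf_one] at h2
    omega
  have hpair : ∀ c : C, ∀ a : G, a ∈ zg S → orderOf a = 2 → a ≠ z →
      (c : G) * a * (c : G)⁻¹ ∈ (S : Subgroup G) → (c : G) ∈ N := fun c a ha ha2 hne hc =>
    mem_normalizer_of_pair h hz hz1 ha2 (zg_le S ha) hne
      (by rw [mem_centralizer_singleton_iff.1 c.2, mul_inv_cancel_right]; exact zg_le S hz) hc
  let a₀C : C := ⟨a₀, hSC (zg_le S ha₀)⟩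
  have ha₀2 : orderOf (π₀ a₀C) = 2 := by
    refine orderOf_eq_prime ?_ fun e => ?_
    · rw [← map_pow, show a₀C ^ 2 = 1 from Subtype.ext (by
        rw [SubmonoidClass.coe_pow, pow_two]; exact (mem_zg.1 ha₀).2.1), map_one]
    · rcases heq a₀C 1 (e.trans (map_one _).symm) with e' | e'
      · exact ha₀1 e'
      · exact ha₀z (by simpa using e')
  have hyp : Fus.SClosedSE.Hyp P A H := by
    refine ⟨⟨map_mono fun x hx => zg_le S hx, ?_⟩, ?_, ?_, ?_, ?_⟩
    · rintro _ ⟨a, ha, rfl⟩ g hg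
      obtain ⟨c, rfl⟩ := hπ₀ g
      obtain ⟨s, hs, he⟩ := hg
      have hmem : ((c * a * c⁻¹ : C) : G) ∈ (S : Subgroup G) := by
        rcases heq (c * a * c⁻¹) s (by rw [map_mul, map_mul, map_inv]; exact he.symm) with e | e <;>
          rw [e]
        · exact hs
        · exact mul_mem hs (zg_le S hz)
      exact ⟨c * a * c⁻¹, (stronglyClosed_zg h S).2 a ha c hmem, by simp⟩
    · intro e
      have hA₀ : π₀ a₀C ∈ A := mem_map_of_mem π₀ (show a₀C ∈ (zg S).subgroupOf C from ha₀)
      rw [e] at hA₀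
      have := mem_bot.1 hA₀
      rw [this, orderOf_one] at ha₀2
      omega
    · exact fun e => hC fun c hc => hHmem ⟨c, hc⟩ (e ▸ mem_top _)
    · intro x hx hx2 g hg
      obtain ⟨a, rfl, ha, ha2, hne⟩ := hlift x hx hx2
      obtain ⟨c, rfl⟩ := hπ₀ g
      refine ⟨c, hpair c a ha ha2 hne ?_, rfl⟩
      have e : π₀ (c * a * c⁻¹) = π₀ a := by
        rw [map_mul, map_mul, map_inv, mem_centralizer_singleton_iff.1 hg, mul_inv_cancel_right]
      rcases heq _ _ e with e' | e' <;> simp only [Subgroup.coe_mul, InvMemClass.coe_inv] at e' <;> rw [e']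
      · exact zg_le S ha
      · exact mul_mem (zg_le S ha) (zg_le S hz)
    · intro g hg
      obtain ⟨c, rfl⟩ := hπ₀ g
      obtain ⟨d, hd, he⟩ := hg _ (mem_map_of_mem π₀ (show a₀C ∈ (zg S).subgroupOf C from ha₀)) ha₀2
      refine ⟨c, hpair c a₀ ha₀ ((twoCentral_of_mem ha₀ ha₀1).1) ha₀z ?_, rfl⟩
      rcases heq (c * a₀C * c⁻¹) d (by rw [map_mul, map_mul, map_inv]; exact he.symm) with e' | e' <;>
        simp only [Subgroup.coe_mul, InvMemClass.coe_inv] at e' <;> rw [e']
      · exact zg_le S hd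
      · exact mul_mem (zg_le S hd) (zg_le S hz)
  have hse := Fus.SClosedSE.holds (fun P z a b H c d e => S1913.result P z a b H c d e) _
    (C ⧸ zpowers zC) rfl P A H hyp
  set Kb := normalClosure {x : C ⧸ zpowers zC | x ∈ A ∧ orderOf x = 2} with hKb
  set O := Cfsg.pPrimeCore 2 ↥Kb with hO
  haveI hOn : O.Normal := Grp.pPrimeCore_isNormal
  haveI hOc : O.Characteristic := characteristic_iff_map_le.2 fun e =>
    Grp.le_pPrimeCore (Normal.map hOn e.toMonoidHom e.surjective)
      (by rw [card_map_of_injective (K := O) e.injective]; exact Grp.pPrimeCore_coprime)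
  have hOH : ∀ c : C, π₀ c ∈ O.map Kb.subtype →
      ∃ o ∈ Cfsg.centralizerPPrimeCore 2 z, (c : G) = o ∨ (c : G) = o * z := by
    intro c hc
    haveI hn : (O.map Kb.subtype).Normal := inferInstance
    haveI : ((O.map Kb.subtype).comap π₀).Normal := Normal.comap hn π₀
    have hzN : zC ∈ (O.map Kb.subtype).comap π₀ := by rw [mem_comap, hπz]; exact one_mem _
    have hidx : ((zpowers zC).subgroupOf ((O.map Kb.subtype).comap π₀)).index = Nat.card O := by
      rw [← Subgroup.card_map_of_injective (K := O) Kb.subtype_injective]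
      have e1 : (zpowers zC).subgroupOf ((O.map Kb.subtype).comap π₀) =
          (π₀.comp ((O.map Kb.subtype).comap π₀).subtype).ker := by
        ext w
        rw [mem_subgroupOf, MonoidHom.mem_ker]
        exact (QuotientGroup.eq_one_iff _).symm
      rw [e1, Subgroup.index_ker, MonoidHom.range_comp, range_subtype,
        map_comap_eq_self_of_surjective hπ₀]
    obtain ⟨o, ho, e⟩ := exists_core_mul hzcen hzC2 hzN oddCore_odd hidx hc
    refine ⟨(o : G), ⟨o, ho, rfl⟩, ?_⟩
    rcases e with e | e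
    · exact Or.inl (congrArg Subtype.val e)
    · exact Or.inr (congrArg Subtype.val e)
  have hh2 : 2 ∣ Nat.card ↥(H.subgroupOf Kb) := even_iff_two_dvd.1 hse.2.1
  have hsp : Cfsg.IsStronglyPEmbedded 2 (H.subgroupOf Kb) := isStronglyPEmbedded_iff.2
    ⟨hh2, hse.1, fun g hg hd => Nat.not_even_iff_odd.2 (hse.2.2 g hg) (even_iff_two_dvd.2 hd)⟩
  rcases S2798.result _ hsp with hrk | hB
  · exfalso
    let t : Kb := ⟨π₀ a₀C, subset_normalClosure
      ⟨mem_map_of_mem π₀ (show a₀C ∈ (zg S).subgroupOf C from ha₀), ha₀2⟩⟩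
    have ht : orderOf t = 2 := by rw [Subgroup.orderOf_mk, ha₀2]
    obtain ⟨htop, -⟩ := hrk t ht
    refine hse.1 (eq_top_iff.2 (htop.ge.trans (sup_le (fun k hk => ?_) fun k hk => ?_)))
    · obtain ⟨c, hc⟩ := hπ₀ (k : C ⧸ zpowers zC)
      obtain ⟨o, ho, e⟩ := hOH c (by rw [hc]; exact ⟨k, hk, rfl⟩)
      refine mem_subgroupOf.2 (hc ▸ mem_map_of_mem π₀ (show (c : G) ∈ N from ?_))
      rcases e with e | e <;> rw [e]
      · exact hcore ho
      · exact mul_mem (hcore ho) (le_normalizer (zg_le S hz))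
    · refine hyp.cent _ (mem_map_of_mem π₀ (show a₀C ∈ (zg S).subgroupOf C from ha₀)) ha₀2 ?_
      exact mem_centralizer_singleton_iff.2 (congrArg Subtype.val (mem_centralizer_singleton_iff.1 hk))
  -- the cover
  set K := conjClosure S z with hK
  have hKC : K ≤ C := conjClosure_le hz
  have hmapK : (K.subgroupOf C).map π₀ = Kb := by
    refine le_antisymm ?_ ?_
    · have hgen : K ≤ (Kb.comap π₀).map C.subtype := by
        refine (closure_le _).2 ?_
        rintro _ ⟨c, hc, a, ha, rfl⟩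
        refine ⟨⟨c, hc⟩ * ⟨a, hSC (zg_le S ha)⟩ * ⟨c, hc⟩⁻¹, ?_, rfl⟩
        rw [SetLike.mem_coe, mem_comap, map_mul, map_mul, map_inv]
        refine (normalClosure_normal).conj_mem _ ?_ _
        have hmem : π₀ ⟨a, hSC (zg_le S ha)⟩ ∈ A := mem_map_of_mem π₀ (show
          (⟨a, hSC (zg_le S ha)⟩ : C) ∈ (zg S).subgroupOf C from ha)
        by_cases h1 : π₀ ⟨a, hSC (zg_le S ha)⟩ = 1
        · rw [h1]; exact one_mem _
        · refine subset_normalClosure ⟨hmem, orderOf_eq_prime ?_ h1⟩
          rw [← map_pow, show (⟨a, hSC (zg_le S ha)⟩ : C) ^ 2 = 1 from Subtype.ext (by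
            rw [SubmonoidClass.coe_pow, pow_two]; exact (mem_zg.1 ha).2.1), map_one]
      rintro _ ⟨k, hk, rfl⟩
      obtain ⟨k', hk', e⟩ := hgen hk
      rw [show k = k' from Subtype.ext e.symm]
      exact hk'
    · haveI : (K.subgroupOf C).Normal := ⟨fun x hx g => conjClosure_conj g.2 hx⟩
      haveI : ((K.subgroupOf C).map π₀).Normal := Normal.map inferInstance π₀ hπ₀
      exact normalClosure_le_normal fun x hx =>
        (map_mono fun y hy => zg_le_conjClosure S z hy : A ≤ _) hx.1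
  let ι : K →* Kb := (π₀.comp (Subgroup.inclusion hKC)).codRestrict Kb fun k =>
    hmapK ▸ mem_map_of_mem π₀ (show Subgroup.inclusion hKC k ∈ K.subgroupOf C from k.2)
  have hι : Function.Surjective ι := by
    rintro ⟨x, hx⟩
    rw [← hmapK] at hx
    obtain ⟨k, hk, rfl⟩ := hx
    exact ⟨⟨k, hk⟩, rfl⟩
  -- generated by involutions
  have hgen2 : Cfsg.pElementClosure 2 (⊤ : Subgroup Kb) = ⊤ := by
    refine eq_top_iff.2 ?_
    rintro ⟨x, hx⟩ -
    have hle : Kb ≤ (Cfsg.pElementClosure 2 (⊤ : Subgroup Kb)).map Kb.subtype := by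
      refine (closure_le _).2 fun y hy => ?_
      obtain ⟨b, ⟨hbA, hb2⟩, hby⟩ := Group.mem_conjugatesOfSet_iff.1 hy
      have hyK : y ∈ Kb := subset_closure hy
      refine ⟨⟨y, hyK⟩, subset_closure ⟨mem_top _, 1, ?_⟩, rfl⟩
      rw [Subgroup.orderOf_mk, ← orderOf_eq_of_isConj hby, hb2, pow_one]
    obtain ⟨w, hw, e⟩ := hle hx
    rwa [show (⟨x, hx⟩ : Kb) = w from Subtype.ext e.symm]
  have htop : Cfsg.pElementClosure 2 (⊤ : Subgroup (Kb ⧸ O)) = ⊤ :=
    CentInt.pElementClosure_map_top hgen2 _ (QuotientGroup.mk'_surjective O)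
  refine ⟨Kb ⧸ O, inferInstance, inferInstance, ⟨{
    π := (QuotientGroup.mk' O).comp ι
    hz := hz
    hz1 := hz1
    core := hcore
    surj := (QuotientGroup.mk'_surjective O).comp hι
    bender := CentInt.IsBenderGrp.congr hB ((MulEquiv.subgroupCongr htop).trans topEquiv)
    ker := fun k hk => ?_
    ker_z := fun k hk => ?_
    ker_core := fun k hk => ?_ }⟩⟩
  · exact hOH (Subgroup.inclusion hKC k) ⟨ι k, (QuotientGroup.eq_one_iff _).1 hk, rfl⟩
  · show QuotientGroup.mk' O (ι k) = 1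
    rw [show ι k = 1 from Subtype.ext (show π₀ (Subgroup.inclusion hKC k) = 1 by
      rw [show Subgroup.inclusion hKC k = zC from Subtype.ext hk, hπz]), map_one]
  · -- the core maps to an odd normal subgroup
    let D : Subgroup Kb := ((Cfsg.centralizerPPrimeCore 2 z).subgroupOf K).map ι
    haveI : ((Cfsg.centralizerPPrimeCore 2 z).subgroupOf K).Normal := ⟨fun x hx g =>
      (mem_normalizer_iff.1 (centralizer_le_normalizer_core z (hKC g.2)) _).1 hx⟩
    have hD : D.Normal := Normal.map inferInstance ι hι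
    have hodd : Odd (Nat.card D) := by
      refine Odd.of_dvd_nat ?_ (card_map_dvd _ ι)
      have hinj : Nat.card ↥((Cfsg.centralizerPPrimeCore 2 z).subgroupOf K) ∣
          Nat.card ↥(Cfsg.centralizerPPrimeCore 2 z) := by
        rw [← card_map_of_injective (K := (Cfsg.centralizerPPrimeCore 2 z).subgroupOf K) K.subtype_injective]
        exact card_dvd_of_le (map_comap_le _ _)
      exact Odd.of_dvd_nat (centralizerCore_odd z) hinj
    refine (QuotientGroup.eq_one_iff _).2 (Grp.le_pPrimeCore hD (Nat.coprime_two_right.2 hodd) ?_)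
    exact ⟨k, hk, rfl⟩

end Cfsg.Agent.Invol.CentRank
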