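import Cfsg.Agent.Lib.Invol.CentRank.Common
import Cfsg.Agent.S0448

/-!
# The Bender group is `SL(2, 4)`: Janko's first group

`S = Ω₁ Z(S)`, `C(z)` is the product of `K` and its odd core, and the odd cores of the centralisers of the
involutions of `S` coincide.  If they are trivial `C(z)` is `Z₂ × A₅`.
-/

set_option autoImplicit false
set_option linter.style.haveILetI false
set_option linter.unusedSectionVars false

open Subgroup
open scoped commutatorElement

namespace Cfsg.Agent.Invol.CentRank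

universe u

variable {G : Type u} [Group G] [Finite G]

theorem exists_odd_pow_mem {S : Sylow 2 G} {x : G} (hx : x ∈ normalizer ((S : Subgroup G) : Set G)) :
    ∃ o : ℕ, Odd o ∧ x ^ o ∈ (S : Subgroup G) := by
  haveI : Fact (Nat.Prime 2) := ⟨Nat.prime_two⟩
  obtain ⟨a, o, ho, hord⟩ := Nat.exists_eq_two_pow_mul_odd (orderOf_pos x).ne'
  refine ⟨o, ho, ?_⟩
  have h2 : orderOf (x ^ o) = 2 ^ a := by
    rw [orderOf_pow' _ ho.pos.ne', hord, Nat.gcd_mul_left_left, Nat.mul_div_cancel _ ho.pos]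
  have hp : IsPGroup 2 (zpowers (x ^ o)) := Invol.isPGroup_zpowers h2
  exact (S.3 (hp.to_sup_of_normal_right' S.isPGroup' (zpowers_le.2 (pow_mem hx o))) le_sup_right) ▸
    mem_sup_left (mem_zpowers _)

theorem core_conj {a n x : G} (hx : x ∈ Cfsg.centralizerPPrimeCore 2 a) :
    n * x * n⁻¹ ∈ Cfsg.centralizerPPrimeCore 2 (n * a * n⁻¹) := by
  haveI : (Cfsg.pPrimeCore 2 ↥(centralizer ({a} : Set G))).Normal := Grp.pPrimeCore_isNormal
  obtain ⟨y, hy, rfl⟩ := hx
  let e : ↥(centralizer ({a} : Set G)) ≃* ↥(centralizer ({n * a * n⁻¹} : Set G)) :=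
    { toFun := fun c => ⟨n * c * n⁻¹, mem_centralizer_singleton_iff.2 (by
        calc n * (c : G) * n⁻¹ * (n * a * n⁻¹) = n * ((c : G) * a) * n⁻¹ := by group
          _ = n * (a * (c : G)) * n⁻¹ := by rw [mem_centralizer_singleton_iff.1 c.2]
          _ = n * a * n⁻¹ * (n * c * n⁻¹) := by group)⟩
      invFun := fun c => ⟨n⁻¹ * c * n, mem_centralizer_singleton_iff.2 (by
        calc n⁻¹ * (c : G) * n * a = n⁻¹ * ((c : G) * (n * a * n⁻¹)) * n := by group
          _ = n⁻¹ * ((n * a * n⁻¹) * (c : G)) * n := by rw [mem_centralizer_singleton_iff.1 c.2]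
          _ = a * (n⁻¹ * c * n) := by group)⟩
      left_inv := fun c => Subtype.ext (by simp [mul_assoc])
      right_inv := fun c => Subtype.ext (by simp [mul_assoc])
      map_mul' := fun c d => Subtype.ext (by simp [mul_assoc]) }
  refine ⟨e y, Grp.le_pPrimeCore (Normal.map (H := Cfsg.pPrimeCore 2 _) inferInstance e.toMonoidHom e.surjective)
    ?_ ⟨y, hy, rfl⟩, rfl⟩
  rw [card_map_of_injective (f := e.toMonoidHom) e.injective]
  exact Grp.pPrimeCore_coprime

variable {S : Sylow 2 G} {z : G} {B : Type u} [Group B] [Finite B] (c : Cover S z B) (h : FourUnique G)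
include c h

section

variable (hP4 : Nat.card (c.sylP : Subgroup B) = 4)
include hP4

theorem Cover.sq_one_of_four {x : B} (hx : x ∈ (c.sylP : Subgroup B)) : x * x = 1 := by
  haveI : Fact (Nat.Prime 2) := ⟨Nat.prime_two⟩
  obtain ⟨a, ha, b, hb, ha2, hb2, hab⟩ := (torus_at (BenderCover.torusSylow_bender c.bender) c.sylP).2.2
  by_contra hne
  -- a cyclic group of order four has one involution
  have h4 : orderOf x = 4 := by
    have hd : orderOf x ∣ 4 := hP4 ▸ Subgroup.orderOf_dvd_natCard _ hx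
    have h2 : ¬ orderOf x ∣ 2 := fun h2 => hne (by rw [← pow_two]; exact orderOf_dvd_iff_pow_eq_one.1 h2)
    have := Nat.le_of_dvd (by norm_num) hd
    interval_cases orderOf x <;> omega
  have heq : zpowers x = (c.sylP : Subgroup B) :=
    eq_of_le_of_card_ge (zpowers_le.2 hx) (by rw [Nat.card_zpowers, h4, hP4])
  haveI : IsCyclic ↥(zpowers x) := inferInstance
  have h1 : ∀ w ∈ zpowers x, orderOf w = 2 → w = x ^ 2 := by
    intro w hw hw2
    obtain ⟨n, rfl⟩ := mem_zpowers_iff.1 hw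
    have h' : x ^ (n * 2) = 1 := by
      rw [zpow_mul, show ((2 : ℤ)) = ((2 : ℕ) : ℤ) from rfl, zpow_natCast, ← hw2, pow_orderOf_eq_one]
    have hd := orderOf_dvd_iff_zpow_eq_one.2 h'
    rw [h4] at hd
    have h'' : x ^ n = x ^ (n % 4) := by rw [← zpow_mod_orderOf, h4]; rfl
    have h4' : n % 4 = 0 ∨ n % 4 = 2 := by push_cast at hd; omega
    rcases h4' with e | e <;> rw [h'', e] at hw2 ⊢
    · rw [zpow_zero, orderOf_one] at hw2; omega
    · exact zpow_natCast x 2
  exact hab ((h1 a (heq ▸ ha) ha2).trans (h1 b (heq ▸ hb) hb2).symm)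

theorem Cover.exists_zg_of_P {x : B} (hx : x ∈ (c.sylP : Subgroup B)) :
    ∃ t : ↥(conjClosure S z), (t : G) ∈ zg S ∧ c.π t = x := by
  by_cases h1 : x = 1
  · exact ⟨1, one_mem _, h1 ▸ map_one _⟩
  obtain ⟨a, ha, -, -, a', rfl, e⟩ := c.exists_zg h hx (orderOf_two_iff.2 ⟨c.sq_one_of_four h hP4 hx, h1⟩)
  exact ⟨a', ha, e⟩

theorem Cover.act_fix {m : ↥(centralizer ({z} : Set G))} (hm : ∀ a ∈ zg S, (m : G) * a * (m : G)⁻¹ = a)
    {x : B} (hx : x ∈ (c.sylP : Subgroup B)) : c.act m x = x := by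
  obtain ⟨t, ht, rfl⟩ := c.exists_zg_of_P h hP4 hx
  rw [c.act_π]
  exact congrArg c.π (Subtype.ext (hm _ ht))

theorem Cover.act_conj {m : ↥(centralizer ({z} : Set G))}
    (hm : ∀ x ∈ (c.sylP : Subgroup B), c.act m x = x) :
    ∃ t : ↥(conjClosure S z), (t : G) ∈ zg S ∧
      c.act (m * ⟨(t : G)⁻¹, inv_mem (conjClosure_le c.hz t.2)⟩) = 1 := by
  have hab : ∀ x ∈ (c.sylP : Subgroup B), ∀ y ∈ (c.sylP : Subgroup B), x * y = y * x := fun x hx y hy =>
    ((torus_at (BenderCover.torusSylow_bender c.bender) c.sylP).1 x hx (c.sq_one_of_four h hP4 hx) y hy).symm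
  obtain ⟨p, hp, e⟩ := (c.borel h).eq_conj hm hab
  obtain ⟨t, ht, rfl⟩ := c.exists_zg_of_P h hP4 hp
  refine ⟨t, ht, ?_⟩
  rw [map_mul, e, c.act_mem (m := ⟨(t : G)⁻¹, inv_mem (conjClosure_le c.hz t.2)⟩) (inv_mem t.2), ← map_mul,
    show (⟨_, inv_mem t.2⟩ : ↥(conjClosure S z)) = t⁻¹ from rfl, map_inv c.π, mul_inv_cancel, map_one]

/-- `S = Ω₁ Z(S)`. -/
theorem Cover.sylow_eq_zg [IsSimpleGroup G] (hna : ¬ IsMulCommutative G) {s : G} (hs : s ∈ (S : Subgroup G)) :
    s ∈ zg S := by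
  haveI : Fact (Nat.Prime 2) := ⟨Nat.prime_two⟩
  have hsplit : ∀ v : G, v ∈ (S : Subgroup G) → ∃ q t : G, t ∈ zg S ∧ v = q * t ∧ q ∈ (S : Subgroup G) ∧
      ∃ hq : q ∈ centralizer ({z} : Set G), c.act ⟨q, hq⟩ = 1 := by
    intro v hv
    obtain ⟨t, ht, e⟩ := c.act_conj h hP4 (m := ⟨v, c.sylow_le hv⟩) fun x hx => c.act_fix h hP4 (fun a ha => by
      show v * a * v⁻¹ = a
      rw [zg_commute ha hv, mul_inv_cancel_right]) hx
    exact ⟨v * (t : G)⁻¹, t, ht, (inv_mul_cancel_right _ _).symm, mul_mem hv (inv_mem (zg_le S ht)),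
      mul_mem (c.sylow_le hv) (inv_mem (conjClosure_le c.hz t.2)), e⟩
  -- the only element of `S` acting trivially besides `1` is `z`
  have hQ : ∀ q : G, q ∈ (S : Subgroup G) → ∀ hq : q ∈ centralizer ({z} : Set G), c.act ⟨q, hq⟩ = 1 →
      q = 1 ∨ q = z := by
    intro q hqS hq hact
    by_contra hne
    rw [not_or] at hne
    obtain ⟨i, hi⟩ := S.isPGroup' ⟨q, hqS⟩
    obtain ⟨i', -, hi'⟩ := (Nat.dvd_prime_pow Nat.prime_two).1
      (orderOf_dvd_of_pow_eq_one (congrArg Subtype.val hi : q ^ 2 ^ i = 1))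
    rcases i' with _ | _ | i'
    · exact hne.1 (orderOf_eq_one_iff.1 (hi'.trans (pow_zero 2)))
    · exact hne.2 (c.eq_z_of_act h (u := ⟨q, hq⟩) hqS (hi'.trans (pow_one 2)) hact)
    · -- `y` of order four squaring to `z`
      set y := q ^ 2 ^ i' with hy
      have hy4 : orderOf y = 4 := by
        rw [hy, orderOf_pow' _ (pow_ne_zero _ two_ne_zero), hi', Nat.gcd_eq_right (pow_dvd_pow 2 (by omega)),
          pow_succ', pow_succ', ← mul_assoc, Nat.mul_div_cancel _ (Nat.two_pow_pos i')]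
        norm_num
      have hyC : y ∈ centralizer ({z} : Set G) := pow_mem hq _
      have hyact : c.act ⟨y, hyC⟩ = 1 := by
        rw [show (⟨y, hyC⟩ : ↥(centralizer ({z} : Set G))) = ⟨q, hq⟩ ^ 2 ^ i' from rfl, map_pow, hact, one_pow]
      have hyz : y ^ 2 = z := c.eq_z_of_act h (u := ⟨y, hyC⟩ ^ 2) (pow_mem (pow_mem hqS _) 2)
        (show orderOf (y ^ 2) = 2 by rw [orderOf_pow' _ two_ne_zero, hy4]; rfl)
        (by rw [map_pow, hyact, one_pow])
      obtain ⟨n, hn, hnz⟩ := exists_moving h hna c.hz c.hz1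
      have hy'S : n * y * n⁻¹ ∈ (S : Subgroup G) := (mem_normalizer_iff.1 hn y).1 (pow_mem hqS _)
      obtain ⟨q', t, ht, e, hq'S, hq'C, hq'act⟩ := hsplit _ hy'S
      have hsq : n * z * n⁻¹ = q' ^ 2 := by
        rw [← hyz, ← conj_pow, e, Commute.mul_pow (show Commute q' t from zg_commute ht hq'S), pow_two t, (mem_zg.1 ht).2.1,
          mul_one]
      refine hnz (c.eq_z_of_act h (u := ⟨q', hq'C⟩ ^ 2) (pow_mem hq'S 2) ?_ (by rw [map_pow, hq'act, one_pow]) |>
        fun e' => hsq.trans e')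
      show orderOf (q' ^ 2) = 2
      rw [← hsq, orderOf_conj_eq, (twoCentral_of_mem c.hz c.hz1).1]
  obtain ⟨q, t, ht, rfl, hqS, hqC, hqact⟩ := hsplit s hs
  rcases hQ q hqS hqC hqact with rfl | rfl
  · rwa [one_mul]
  · exact mul_mem c.hz ht

/-- `C(z)` is the product of `K` and its odd core. -/
theorem Cover.exists_decomp [IsSimpleGroup G] (hna : ¬ IsMulCommutative G) {m : G}
    (hm : m ∈ centralizer ({z} : Set G)) :
    ∃ k ∈ conjClosure S z, ∃ o ∈ Cfsg.centralizerPPrimeCore 2 z, m = k * o := by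
  haveI : Fact (Nat.Prime 2) := ⟨Nat.prime_two⟩
  set C := centralizer ({z} : Set G) with hC
  set K := conjClosure S z with hK
  have hKC : K ≤ C := conjClosure_le c.hz
  have hSz := fun (s : G) (hs : s ∈ (S : Subgroup G)) => c.sylow_eq_zg h hP4 hna hs
  -- into `N(S)`
  obtain ⟨k₁, hk₁, hk₁N⟩ : ∃ k₁ ∈ K, k₁ * m ∈ normalizer ((S : Subgroup G) : Set G) := by
    have hle : ((S : Subgroup G).subgroupOf K).map K.subtype = (S : Subgroup G) := by
      rw [map_subgroupOf_eq_of_le fun s hs => zg_le_conjClosure S z (hSz s hs)]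
    let T : Sylow 2 ↥K := c.sylT
    let φ : ↥K ≃* ↥K :=
      { toFun := fun k => ⟨m * k * m⁻¹, conjClosure_conj hm k.2⟩
        invFun := fun k => ⟨m⁻¹ * k * m, by simpa using conjClosure_conj (inv_mem hm) k.2⟩
        left_inv := fun k => Subtype.ext (by simp [mul_assoc])
        right_inv := fun k => Subtype.ext (by simp [mul_assoc])
        map_mul' := fun a b => Subtype.ext (by simp [mul_assoc]) }
    obtain ⟨g, hg⟩ := MulAction.exists_smul_eq ↥K (T.mapSurjective (f := φ.toMonoidHom) φ.surjective) T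
    refine ⟨g, g.2, mem_normalizer_iff.2 ?_⟩
    have hone : ∀ s ∈ (S : Subgroup G), (g : G) * m * s * ((g : G) * m)⁻¹ ∈ (S : Subgroup G) := by
      intro s hs
      let sK : ↥K := ⟨s, zg_le_conjClosure S z (hSz s hs)⟩
      have hmem : g * φ sK * g⁻¹ ∈ (T : Subgroup ↥K) := by
        rw [← hg, Sylow.coe_subgroup_smul]
        exact ⟨φ sK, ⟨sK, hs, rfl⟩, rfl⟩
      have : (g : G) * (m * s * m⁻¹) * (g : G)⁻¹ ∈ (S : Subgroup G) := hmem
      rwa [show (g : G) * m * s * ((g : G) * m)⁻¹ = (g : G) * (m * s * m⁻¹) * (g : G)⁻¹ by group]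
    exact fun s => (mem_normalizer_iff.1 (mem_normalizer_iff.2 fun v => ⟨hone v, fun hv => by
      have hS : (S : Subgroup G).map (MulAut.conj ((g : G) * m)).toMonoidHom = (S : Subgroup G) := by
        refine eq_of_le_of_card_ge ?_ (by rw [card_map_of_injective (f := (MulAut.conj ((g : G) * m)).toMonoidHom)
          (MulAut.conj ((g : G) * m)).injective])
        rintro _ ⟨w, hw, rfl⟩
        exact hone w hw
      rw [← hS] at hv
      obtain ⟨w, hw, e⟩ := hv
      rwa [← mul_left_cancel (mul_right_cancel (e : (g : G) * m * w * ((g : G) * m)⁻¹ = _))]⟩)) s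
  -- fix an involution of `P`
  obtain ⟨a, ha, b, hb, ha2, hb2, hab⟩ := (torus_at (BenderCover.torusSylow_bender c.bender) c.sylP).2.2
  let m₁ : ↥C := ⟨k₁ * m, mul_mem (hKC hk₁) hm⟩
  have hmove : ∀ (x : ↥C), (x : G) ∈ normalizer ((S : Subgroup G) : Set G) → ∀ p ∈ (c.sylP : Subgroup B),
      c.act x p ∈ (c.sylP : Subgroup B) := by
    intro x hx p hp
    obtain ⟨t, ht, rfl⟩ := c.mem_sylP.1 hp
    rw [c.act_π]
    exact c.mem_sylP.2 ⟨_, (mem_normalizer_iff.1 hx _).1 ht, rfl⟩
  obtain ⟨v, hv, hva⟩ := (torus_at (BenderCover.torusSylow_bender c.bender) c.sylP).2.1 _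
    (hmove m₁ hk₁N a ha) a ha (by rw [MulEquiv.orderOf_eq, ha2]) ha2
  obtain ⟨k₂, rfl⟩ := c.surj v
  have hk₂N := c.mem_normalizer h hv
  let x : ↥C := ⟨k₂, hKC k₂.2⟩ * m₁
  have hxN : (x : G) ∈ normalizer ((S : Subgroup G) : Set G) := mul_mem hk₂N hk₁N
  have hxa : c.act x a = a := by
    rw [map_mul, MulAut.mul_apply, c.act_mem (m := ⟨k₂, hKC k₂.2⟩) k₂.2, MulAut.conj_apply]
    exact hva
  obtain ⟨o, ho, hxo⟩ := exists_odd_pow_mem hxN
  have hab1 : a * b ≠ 1 := fun e => hab (by rw [eq_inv_of_mul_eq_one_left e, inv_of_orderOf_two hb2])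
  have hPmem : ∀ p ∈ (c.sylP : Subgroup B), p = 1 ∨ p = a ∨ p = b ∨ p = a * b := by
    intro p hp
    by_contra hcon
    simp only [not_or] at hcon
    have ha1 := ne_one_of_orderOf_two ha2
    have hb1 := ne_one_of_orderOf_two hb2
    have hsub : ({1, a, b, a * b, p} : Set B) ⊆ ((c.sylP : Subgroup B) : Set B) := by
      rintro w (rfl | rfl | rfl | rfl | rfl)
      exacts [one_mem _, ha, hb, mul_mem ha hb, hp]
    have hcard := Set.ncard_le_ncard hsub (Set.toFinite _)
    rw [Set.ncard_insert_of_notMem (by simp [ha1.symm, hb1.symm, hab1.symm, Ne.symm hcon.1]) (Set.toFinite _),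
      Set.ncard_insert_of_notMem (by simp [hab, hb1, Ne.symm hcon.2.1]) (Set.toFinite _),
      Set.ncard_insert_of_notMem (by simp [ha1, Ne.symm hcon.2.2.1]) (Set.toFinite _),
      Set.ncard_insert_of_notMem (by simp [Ne.symm hcon.2.2.2]) (Set.toFinite _), Set.ncard_singleton] at hcard
    have h0 : ((c.sylP : Subgroup B) : Set B).ncard = Nat.card (c.sylP : Subgroup B) := rfl
    omega
  have hxb : c.act x b = b := by
    have hxP := hmove x hxN b hb
    rcases hPmem _ hxP with e | e | e | e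
    · exact absurd e fun e => ne_one_of_orderOf_two hb2 ((c.act x).injective (e.trans (map_one _).symm))
    · exact absurd ((c.act x).injective (e.trans hxa.symm)).symm hab
    · exact e
    · exfalso
      have h2 : ∀ j : ℕ, ((c.act x) ^ j) b = a ^ j * b := by
        intro j
        induction j with
        | zero => simp
        | succ j ih => rw [pow_succ', MulAut.mul_apply, ih, map_mul, map_pow, hxa, e, ← mul_assoc, pow_succ]
      have h3 := h2 o
      rw [← map_pow, c.act_fix h hP4 (fun w hw => by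
        show (x : G) ^ o * w * ((x : G) ^ o)⁻¹ = w
        rw [zg_commute hw hxo, mul_inv_cancel_right]) hb] at h3
      have hd := orderOf_dvd_of_pow_eq_one (mul_eq_right.1 h3.symm)
      rw [ha2] at hd
      exact Nat.not_even_iff_odd.2 ho (even_iff_two_dvd.2 hd)
  have hxP : ∀ p ∈ (c.sylP : Subgroup B), c.act x p = p := by
    intro p hp
    rcases hPmem p hp with rfl | rfl | rfl | rfl
    exacts [map_one _, hxa, hxb, by rw [map_mul, hxa, hxb]]
  obtain ⟨t, ht, hker⟩ := c.act_conj h hP4 hxP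
  -- the kernel of the action
  let zC : ↥C := ⟨z, mem_centralizer_singleton_iff.2 rfl⟩
  have hz2 : orderOf zC = 2 := by rw [Subgroup.orderOf_mk, (twoCentral_of_mem c.hz c.hz1).1]
  have hzker : zC ∈ c.act.ker := by
    rw [MonoidHom.mem_ker, c.act_mem (m := zC) (zg_le_conjClosure S z c.hz), c.ker_z _ rfl, map_one]
  have hidx : Odd ((zpowers zC).subgroupOf c.act.ker).index := by
    have h1 := Grp.sylow_inf_normal_relIndex (S.subtype c.sylow_le) c.act.ker
    rw [Sylow.coe_subtype] at h1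
    have e : (zpowers zC).subgroupOf c.act.ker = ((S : Subgroup G).subgroupOf C).subgroupOf c.act.ker := by
      ext w
      rw [mem_subgroupOf, mem_subgroupOf, mem_subgroupOf]
      constructor
      · intro hw
        rcases eq_or_of_mem_zpowers hz2 hw with e | e <;> rw [e]
        · exact one_mem _
        · exact zg_le S c.hz
      · intro hw
        by_cases hw1 : ((w : ↥C) : G) = 1
        · rw [show (w : ↥C) = 1 from Subtype.ext hw1]; exact one_mem _
        rw [show (w : ↥C) = zC from Subtype.ext (c.eq_z_of_act h hw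
          (twoCentral_of_mem (hSz _ hw) hw1).1 (MonoidHom.mem_ker.1 w.2))]
        exact mem_zpowers _
    rw [e]
    exact Nat.not_even_iff_odd.1 fun he => h1 (even_iff_two_dvd.1 he)
  obtain ⟨w, hw, e⟩ := exists_core_mul
    (fun g : ↥C => Subtype.ext (mem_centralizer_singleton_iff.1 g.2)) hz2 hzker hidx rfl
    (MonoidHom.mem_ker.2 hker)
  have hwG : (w : G) ∈ Cfsg.centralizerPPrimeCore 2 z := ⟨w, hw, rfl⟩
  have hwK : ∀ k ∈ K, k * (w : G) = w * k := fun k hk => commute_core c.hz c.core hwG hk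
  have hzK : z ∈ K := zg_le_conjClosure S z c.hz
  obtain ⟨k₃, hk₃, hx₃⟩ : ∃ k₃ ∈ K, (x : G) = k₃ * w := by
    rcases e with e | e
    · refine ⟨t, t.2, ?_⟩
      have e' : (x : G) * (t : G)⁻¹ = w := congrArg Subtype.val e
      rw [hwK t t.2, ← e', inv_mul_cancel_right]
    · refine ⟨z * t, mul_mem hzK t.2, ?_⟩
      have e' : (x : G) * (t : G)⁻¹ = w * z := congrArg Subtype.val e
      rw [hwK _ (mul_mem hzK t.2), ← mul_assoc, ← e', inv_mul_cancel_right]
  refine ⟨k₁⁻¹ * (k₂ : G)⁻¹ * k₃, mul_mem (mul_mem (inv_mem hk₁) (inv_mem k₂.2)) hk₃, w, hwG, ?_⟩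
  rw [show k₁⁻¹ * (k₂ : G)⁻¹ * k₃ * (w : G) = k₁⁻¹ * (k₂ : G)⁻¹ * (k₃ * w) by group, ← hx₃]
  show m = k₁⁻¹ * (k₂ : G)⁻¹ * ((k₂ : G) * (k₁ * m))
  group

/-- An element of odd order centralising `S` lies in the odd core of `C(z)`. -/
theorem Cover.mem_core_of_centralizes [IsSimpleGroup G] (hna : ¬ IsMulCommutative G) {x : G} {j : ℕ}
    (hj : Odd j) (hxj : x ^ j = 1) (hx : ∀ s ∈ (S : Subgroup G), s * x = x * s) :
    x ∈ Cfsg.centralizerPPrimeCore 2 z := by
  haveI : Fact (Nat.Prime 2) := ⟨Nat.prime_two⟩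
  have hxC : x ∈ centralizer ({z} : Set G) := mem_centralizer_singleton_iff.2 (hx z (zg_le S c.hz)).symm
  obtain ⟨k, hk, o, ho, e⟩ := c.exists_decomp h hP4 hna hxC
  let kC : ↥(centralizer ({z} : Set G)) := ⟨k, conjClosure_le c.hz hk⟩
  have hkfix : ∀ a ∈ zg S, k * a * k⁻¹ = a := fun a ha => by
    have h1 : a * o = o * a := commute_core c.hz c.core ho (zg_le_conjClosure S z ha)
    calc k * a * k⁻¹ = k * (a * o) * o⁻¹ * k⁻¹ := by group
      _ = (k * o) * a * (k * o)⁻¹ := by rw [h1]; group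
      _ = a := by rw [← e, ← hx a (zg_le S ha), mul_inv_cancel_right]
  obtain ⟨t, ht, hker⟩ := c.act_conj h hP4 (m := kC) fun p hp => c.act_fix h hP4 hkfix hp
  have hkt : c.π (⟨k, hk⟩ * t⁻¹) = 1 := by
    refine c.conj_eq_one ?_
    have h0 := c.act_mem (m := kC * ⟨(t : G)⁻¹, inv_mem (conjClosure_le c.hz t.2)⟩) (mul_mem hk (inv_mem t.2))
    rw [hker] at h0
    exact h0.symm
  obtain ⟨o₁, ho₁, e₁⟩ := c.ker _ hkt
  obtain ⟨v, hv, hkv⟩ : ∃ v ∈ zg S, k = v * o₁ := by
    have htK := t.2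
    have e₁' : k * (t : G)⁻¹ = o₁ ∨ k * (t : G)⁻¹ = o₁ * z := e₁
    rcases e₁' with e₁' | e₁'
    · exact ⟨t, ht, by rw [commute_core c.hz c.core ho₁ htK, ← e₁', inv_mul_cancel_right]⟩
    · refine ⟨z * t, mul_mem c.hz ht, ?_⟩
      rw [commute_core c.hz c.core ho₁ (mul_mem (zg_le_conjClosure S z c.hz) htK), ← mul_assoc, ← e₁',
        inv_mul_cancel_right]
  have hoo : o₁ * o ∈ Cfsg.centralizerPPrimeCore 2 z := mul_mem ho₁ ho
  have hc : Commute v (o₁ * o) := commute_core c.hz c.core hoo (zg_le_conjClosure S z hv)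
  have hxv : x = v * (o₁ * o) := by rw [e, hkv, mul_assoc]
  set N := Nat.card (Cfsg.centralizerPPrimeCore 2 z) * j with hN
  have h1 : (o₁ * o) ^ N = 1 := by
    rw [hN, pow_mul, orderOf_dvd_iff_pow_eq_one.1 (Subgroup.orderOf_dvd_natCard _ hoo), one_pow]
  have h2 : x ^ N = 1 := by rw [hN, mul_comm, pow_mul, hxj, one_pow]
  rw [hxv, hc.mul_pow, h1, mul_one] at h2
  obtain ⟨i, hi⟩ := (centralizerCore_odd z).mul hj
  have hv1 : v = 1 := by
    rw [← hN] at hi
    rwa [hi, pow_succ, pow_mul, pow_two, (mem_zg.1 hv).2.1, one_pow, one_mul] at h2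
  rw [hxv, hv1, one_mul]
  exact hoo

theorem Cover.concl_five [IsSimpleGroup G] (hna : ¬ IsMulCommutative G) (hB : Nat.card B = 60)
    (hcore : ∀ a ∈ zg S, a ≠ 1 → Cfsg.centralizerPPrimeCore 2 a ≤ normalizer ((S : Subgroup G) : Set G)) :
    Concl G := by
  haveI : Fact (Nat.Prime 2) := ⟨Nat.prime_two⟩
  set W := Cfsg.centralizerPPrimeCore 2 z with hW
  set N := normalizer ((S : Subgroup G) : Set G) with hN
  have hle : ∀ a ∈ zg S, a ≠ 1 → Cfsg.centralizerPPrimeCore 2 a ≤ W := by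
    intro a ha ha1 x hx
    refine c.mem_core_of_centralizes h hP4 hna (centralizerCore_odd a)
      (orderOf_dvd_iff_pow_eq_one.1 (Subgroup.orderOf_dvd_natCard _ hx)) fun s hs => ?_
    exact centralizes_of_normalizer (centralizerCore_odd a) (fun v hv => centralizer_le_normalizer_core a
      (mem_centralizer_singleton_iff.2 (zg_commute ha hv))) (hcore a ha ha1) hx hs
  have heq : ∀ a ∈ zg S, a ≠ 1 → Cfsg.centralizerPPrimeCore 2 a = W := by
    intro a ha ha1
    obtain ⟨n, -, rfl⟩ := c.transitive h hna ha ha1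
    refine eq_of_le_of_card_ge (hle _ ha ha1) ?_
    exact Nat.card_le_card_of_injective (fun x : W => (⟨n * x * n⁻¹, core_conj x.2⟩ :
      Cfsg.centralizerPPrimeCore 2 (n * z * n⁻¹))) fun x y e => Subtype.ext
        (mul_left_cancel (mul_right_cancel (congrArg Subtype.val e)))
  by_cases hW1 : W = ⊥
  · refine Or.inr (Or.inr (Or.inr (Or.inr ?_)))
    set C := centralizer ({z} : Set G) with hC
    have hCK : C ≤ conjClosure S z := fun m hm => by
      obtain ⟨k, hk, o, ho, rfl⟩ := c.exists_decomp h hP4 hna hm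
      rw [← hW, hW1] at ho
      rwa [mem_bot.1 ho, mul_one]
    let χ : ↥C →* B := c.π.comp (Subgroup.inclusion hCK)
    have hχ : Function.Surjective χ := fun b => by
      obtain ⟨k, rfl⟩ := c.surj b
      exact ⟨⟨k, conjClosure_le c.hz k.2⟩, congrArg c.π (Subtype.ext rfl)⟩
    let zC : ↥C := ⟨z, mem_centralizer_singleton_iff.2 rfl⟩
    have hker : ∀ x : ↥C, χ x = 1 → x = 1 ∨ x = zC := fun x hx => by
      obtain ⟨o, ho, e⟩ := c.ker _ hx
      rw [← hW, hW1, mem_bot] at ho
      subst ho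
      rw [one_mul] at e
      exact e.imp (fun e => Subtype.ext e) fun e => Subtype.ext e
    let D := commutator ↥C
    have hzD : zC ∉ D := fun hz' => by
      have hS := S.subtype c.sylow_le
      have h1 := BenderCover.mem_commutator_of_central ((S : Subgroup G).subgroupOf C)
        (fun hd => (S.subtype c.sylow_le).not_dvd_index hd) (u := zC)
        (fun g => Subtype.ext (mem_centralizer_singleton_iff.1 g.2).symm)
        (Subtype.ext (mem_zg.1 c.hz).2.1) (zg_le S c.hz) hz'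
      have h2 : ⁅(S : Subgroup G).subgroupOf C, (S : Subgroup G).subgroupOf C⁆ = ⊥ := by
        rw [eq_bot_iff, commutator_le]
        intro a ha b hb
        rw [mem_bot, commutatorElement_eq_one_iff_mul_comm]
        exact Subtype.ext (zg_commute (c.sylow_eq_zg h hP4 hna hb) ha)
      rw [h2, mem_bot] at h1
      exact c.hz1 (congrArg Subtype.val h1)
    haveI := c.bender.isSimple
    have hmap : D.map χ = ⊤ := by
      show (commutator ↥C).map χ = ⊤
      rw [_root_.commutator_def, map_commutator, map_top_of_surjective χ hχ, ← _root_.commutator_def]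
      refine (inferInstance : (commutator B).Normal).eq_bot_or_eq_top.resolve_left fun e => ?_
      obtain ⟨a, b, hab⟩ := c.bender.not_comm
      have h1 : ⁅a, b⁆ ∈ commutator B := commutator_mem_commutator (mem_top a) (mem_top b)
      rw [e, mem_bot, commutatorElement_eq_one_iff_mul_comm] at h1
      exact hab h1
    let φ : ↥C →* (↥C ⧸ D) × B := (QuotientGroup.mk' D).prod χ
    have hφi : Function.Injective φ := by
      rw [injective_iff_map_eq_one]
      intro x hx
      have hxD : x ∈ D := (QuotientGroup.eq_one_iff x).1 (congrArg Prod.fst hx)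
      rcases hker x (congrArg Prod.snd hx) with e | e
      · exact e
      · exact absurd (e ▸ hxD) hzD
    have hlift : ∀ b : B, ∃ d ∈ D, χ d = b := fun b => by
      obtain ⟨d, hd, e⟩ := (hmap.ge (mem_top b) : b ∈ D.map χ)
      exact ⟨d, hd, e⟩
    have hφs : Function.Surjective φ := by
      rintro ⟨q, b⟩
      obtain ⟨x, rfl⟩ := QuotientGroup.mk'_surjective D q
      obtain ⟨d, hd, e⟩ := hlift ((χ x)⁻¹ * b)
      refine ⟨x * d, Prod.ext ?_ ?_⟩
      · show QuotientGroup.mk' D (x * d) = QuotientGroup.mk' D x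
        rw [map_mul, show QuotientGroup.mk' D d = 1 from (QuotientGroup.eq_one_iff d).2 hd, mul_one]
      · show χ (x * d) = b
        rw [map_mul, e, mul_inv_cancel_left]
    have hcard : Nat.card (↥C ⧸ D) = 2 := by
      have hsurj : Function.Surjective (![1, QuotientGroup.mk zC] : Fin 2 → ↥C ⧸ D) := by
        intro q
        obtain ⟨x, rfl⟩ := QuotientGroup.mk'_surjective D q
        obtain ⟨d, hd, e⟩ := hlift (χ x)
        rcases hker (d⁻¹ * x) (by rw [map_mul, map_inv, e, inv_mul_cancel]) with e' | e'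
        · refine ⟨0, ((QuotientGroup.eq_one_iff x).2 ?_).symm⟩
          rw [← inv_mul_eq_one.1 e']; exact hd
        · refine ⟨1, QuotientGroup.eq.2 ?_⟩
          rw [inv_mul_eq_iff_eq_mul.1 e', show zC⁻¹ * (d * zC) = d from by
            rw [show d * zC = zC * d from Subtype.ext (mem_centralizer_singleton_iff.1 d.2), inv_mul_cancel_left]]
          exact hd
      have h1 := Nat.card_le_card_of_surjective _ hsurj
      rw [Nat.card_fin] at h1
      have h2 : 1 < Nat.card (↥C ⧸ D) := Finite.one_lt_card_iff_nontrivial.2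
        ⟨⟨QuotientGroup.mk zC, 1, fun e => hzD ((QuotientGroup.eq_one_iff zC).1 e)⟩⟩
      omega
    obtain ⟨e5⟩ := Fus.alternating_five_of_card hB
    haveI : Fact (Nat.Prime 2) := ⟨Nat.prime_two⟩
    exact S0448.result z (twoCentral_of_mem c.hz c.hz1) ((MulEquiv.ofBijective φ ⟨hφi, hφs⟩).trans
      ((mulEquivOfPrimeCardEq (p := 2) hcard (by rw [Nat.card_congr Multiplicative.toAdd, Nat.card_zmod])).prodCongr
        e5))
  · -- a local subgroup over `N(S)`
    set M := normalizer (W : Set G) with hM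
    have hmemM : ∀ n : G, (∀ a ∈ zg S, a ≠ 1 → n * a * n⁻¹ ∈ zg S) → n ∈ M := by
      intro n hn
      refine mem_normalizer_fintype fun x hx => ?_
      have h1 := hn z c.hz c.hz1
      have h2 : n * x * n⁻¹ ∈ Cfsg.centralizerPPrimeCore 2 (n * z * n⁻¹) := core_conj (hW ▸ hx)
      rwa [heq _ h1 fun e => c.hz1 (conj_eq_one_iff.1 e)] at h2
    have hMt : M ≠ ⊤ := fun e => by
      rcases (normalizer_eq_top_iff.1 e).eq_bot_or_eq_top with e' | e'
      · exact hW1 e'
      · exact Nat.not_even_iff_odd.2 (centralizerCore_odd z)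
          (even_card_of_mem (twoCentral_of_mem c.hz c.hz1).1 (hW ▸ e' ▸ mem_top z))
    exact concl_of_overgroup h hna c.hz c.hz1 (M := M)
      (fun n hn => hmemM n fun a ha _ => (stronglyClosed_zg h S).2 a ha n
        ((mem_normalizer_iff.1 hn a).1 (zg_le S ha))) hMt
      fun a ha ha1 => hM ▸ heq a ha ha1 ▸ centralizer_le_normalizer_core a

end

end Cfsg.Agent.Invol.CentRank
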