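import Cfsg.Agent.Lib.Invol.CentRank.Common
import Cfsg.Agent.Lib.Fus.DihedralAut
import Cfsg.Agent.Lib.Grp.AmbivalentSolvable
import Cfsg.Agent.Lib.Block.SharplySolvable

/-!
# Automorphisms of order a power of five

In `PSU(3, 4)` those normalising a Sylow 2-subgroup and fixing its involutions are inner; on a 2-group with one
involution they are trivial.
-/

set_option autoImplicit false
set_option linter.style.haveILetI false
set_option linter.unusedSectionVars false

open Subgroup

namespace Cfsg.Agent.Invol.CentRank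

universe u

theorem aut_fixed_of_five {R : Type u} [Group R] [Finite R] (hR : IsPGroup 2 R)
    (h1 : ∀ a b : R, orderOf a = 2 → orderOf b = 2 → a = b) {e : MulAut R} {j : ℕ} (he : e ^ 5 ^ j = 1) :
    e = 1 := by
  haveI : Fact (Nat.Prime 2) := ⟨Nat.prime_two⟩
  have hfin : IsPGroup 2 (MulAut R) → e = 1 := fun hp => by
    obtain ⟨k, hk⟩ := hp e
    exact orderOf_eq_one_iff.1 (Nat.eq_one_of_dvd_coprimes (((by norm_num : Nat.Coprime 2 5)).pow k j)
      (orderOf_dvd_of_pow_eq_one hk) (orderOf_dvd_of_pow_eq_one he))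
  rcases Grp.Ambivalent.cyclic_or_quaternion hR h1 with hc | ⟨n, ⟨φ⟩⟩
  · obtain ⟨k, hk⟩ := IsPGroup.iff_card.1 hR
    rcases Nat.eq_zero_or_pos k with rfl | hk0
    · exact hfin (IsPGroup.of_card (n := 0) (by rw [IsCyclic.card_mulAut, hk, pow_zero, Nat.totient_one]))
    · exact hfin (IsPGroup.of_card (n := k - 1) (by
        rw [IsCyclic.card_mulAut, hk, Nat.totient_prime_pow Nat.prime_two hk0]; simp))
  · rcases Nat.eq_zero_or_pos n with rfl | hn
    · have hd : Nat.card (MulAut R) ∣ 24 := by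
        rw [Nat.card_congr (MulAut.congr (φ : R ≃* QuaternionGroup 2)).toEquiv]
        exact Block.SharpTwo.q8_aut_card_dvd
      exact orderOf_eq_one_iff.1 (Nat.eq_one_of_dvd_coprimes ((by norm_num : Nat.Coprime 24 5).pow_right j)
        ((orderOf_dvd_natCard e).trans hd) (orderOf_dvd_of_pow_eq_one he))
    · exact hfin (Fus.isPGroup_mulAut_congr φ (Fus.isPGroup_mulAut_quaternionGroup (by omega)))

variable {B : Type u} [Group B] [Finite B]

/-- The automorphisms fixing `P` and, pointwise, its involutions. -/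
def fixGroup (P : Sylow 2 B) : Subgroup (MulAut B) where
  carrier := {α | (∀ x, α x ∈ (P : Subgroup B) ↔ x ∈ (P : Subgroup B)) ∧
    ∀ w ∈ (P : Subgroup B), w * w = 1 → α w = w}
  one_mem' := ⟨fun _ => Iff.rfl, fun _ _ _ => rfl⟩
  mul_mem' := fun {a b} ha hb => ⟨fun x => (ha.1 (b x)).trans (hb.1 x), fun w hw h2 => by
    rw [MulAut.mul_apply, hb.2 w hw h2, ha.2 w hw h2]⟩
  inv_mem' := fun {a} ha => ⟨fun x => by rw [← ha.1 (a⁻¹ x), MulAut.apply_inv_self], fun w hw h2 => by
    conv_lhs => rw [← ha.2 w hw h2]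
    exact MulAut.inv_apply_self B a w⟩

theorem conj_mem_iff {P : Sylow 2 B} {b : B} :
    (∀ x, MulAut.conj b x ∈ (P : Subgroup B) ↔ x ∈ (P : Subgroup B)) ↔
      b ∈ normalizer ((P : Subgroup B) : Set B) :=
  ⟨fun h => mem_normalizer_iff.2 fun x => (h x).symm, fun h x => (mem_normalizer_iff.1 h x).symm⟩

section

variable {P : Sylow 2 B} (hB : Borel P) (U : UnitData (P : Subgroup B))
  (hcen : ∀ x ∈ (P : Subgroup B), x * x = 1 → ∀ y ∈ (P : Subgroup B), y * x = x * y)
  (htwo : ∃ a ∈ (P : Subgroup B), ∃ b ∈ (P : Subgroup B), orderOf a = 2 ∧ orderOf b = 2 ∧ a ≠ b)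
  (hW : {x | x ∈ (P : Subgroup B) ∧ x * x = 1}.ncard ≤ 4)
include hB U hcen htwo hW

theorem card_five_le {D : Subgroup (MulAut B)} (hD : D ≤ fixGroup P) (hp : IsPGroup 5 D) :
    Nat.card D ≤ 5 := by
  haveI : Fact (Nat.Prime 5) := ⟨by norm_num⟩
  haveI : Fact (Nat.Prime 2) := ⟨Nat.prime_two⟩
  let W : Subgroup (P : Subgroup B) :=
    { carrier := {x | (x : B) * x = 1}
      one_mem' := by simp
      mul_mem' := fun {a b} ha hb => by
        show ((a : B) * b) * ((a : B) * b) = 1
        calc ((a : B) * b) * ((a : B) * b) = (a : B) * ((b : B) * a) * b := by group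
          _ = (a : B) * ((a : B) * b) * b := by rw [hcen a a.2 ha b b.2]
          _ = ((a : B) * a) * ((b : B) * b) := by group
          _ = 1 := by rw [(ha : (a : B) * a = 1), (hb : (b : B) * b = 1), one_mul]
      inv_mem' := fun {a} ha => by
        show (a : B)⁻¹ * (a : B)⁻¹ = 1
        rw [← mul_inv_rev, (ha : (a : B) * a = 1), inv_one] }
  have hWn : W.Normal := ⟨fun x hx g => by
    have e : g * x * g⁻¹ = x := Subtype.ext (by
      show (g : B) * x * (g : B)⁻¹ = x
      rw [hcen x x.2 hx g g.2, mul_inv_cancel_right])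
    rw [e]; exact hx⟩
  have hW4 : Nat.card W = 4 := by
    have hle : Nat.card W ≤ 4 := by
      refine le_trans ?_ hW
      rw [← Nat.card_coe_set_eq {x | x ∈ (P : Subgroup B) ∧ x * x = 1}]
      exact Nat.card_le_card_of_injective
        (fun w : W => (⟨_, (w : (P : Subgroup B)).2, w.2⟩ : {x | x ∈ (P : Subgroup B) ∧ x * x = 1}))
        fun v w e => Subtype.ext (Subtype.ext (congrArg Subtype.val e :))
    obtain ⟨a, ha, b, hb, ha2, hb2, hab⟩ := htwo
    have hinj : Function.Injective (![⟨1, one_mem W⟩, ⟨⟨a, ha⟩, mul_self_of_orderOf_two ha2⟩,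
        ⟨⟨b, hb⟩, mul_self_of_orderOf_two hb2⟩] : Fin 3 → W) := by
      have := ne_one_of_orderOf_two ha2
      have := ne_one_of_orderOf_two hb2
      intro i j e
      fin_cases i <;> fin_cases j <;> simp_all [Subtype.ext_iff]
    have h3 := Nat.card_le_card_of_injective _ hinj
    rw [Nat.card_fin] at h3
    have hd : Nat.card W ∣ 64 := U.card ▸ card_subgroup_dvd_card W
    interval_cases Nat.card W <;> omega
  have hV : Nat.card ((P : Subgroup B) ⧸ W) = 16 := by
    have h := W.card_eq_card_quotient_mul_card_subgroup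
    rw [U.card, hW4] at h
    omega
  let ρ : D → ((P : Subgroup B) →* (P : Subgroup B)) := fun d =>
    ((d : MulAut B).toMonoidHom.comp (P : Subgroup B).subtype).codRestrict _ fun x => ((hD d.2).1 x).2 x.2
  have hρ : ∀ d : D, W ≤ W.comap (ρ d) := fun d x (hx : (x : B) * x = 1) => by
    show (d : MulAut B) x * (d : MulAut B) x = 1
    rw [← map_mul, hx, map_one]
  letI : MulAction D ((P : Subgroup B) ⧸ W) :=
    { smul := fun d v => QuotientGroup.map W W (ρ d) (hρ d) v
      one_smul := fun v => QuotientGroup.induction_on v fun x => congrArg QuotientGroup.mk (Subtype.ext rfl)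
      mul_smul := fun d e v => QuotientGroup.induction_on v fun x => congrArg QuotientGroup.mk (Subtype.ext rfl) }
  have hfree : ∀ d : D, d ≠ 1 → ∀ v : (P : Subgroup B) ⧸ W, d • v = v → v = 1 := by
    intro d hd
    let F := (QuotientGroup.map W W (ρ d) (hρ d)).eqLocus (MonoidHom.id _)
    intro v hv
    have hF : (MulAction.fixedPoints (zpowers d) ((P : Subgroup B) ⧸ W)) = (F : Set _) := by
      ext w
      refine ⟨fun hw => hw ⟨d, mem_zpowers d⟩, fun hw g => ?_⟩
      obtain ⟨g, hg⟩ := g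
      obtain ⟨n, rfl⟩ := (mem_powers_iff_mem_zpowers.2 hg)
      show d ^ n • w = w
      induction n with
      | zero => rw [pow_zero, one_smul]
      | succ n ih => rw [pow_succ, mul_smul, show d • w = w from hw, ih (pow_mem (mem_zpowers d) n)]
    have hmod := IsPGroup.card_modEq_card_fixedPoints (hp.to_subgroup (zpowers d)) ((P : Subgroup B) ⧸ W)
    rw [hV, hF] at hmod
    have hF16 : Nat.card F ≠ 16 := by
      intro h16
      have htop : ∀ x : (P : Subgroup B), d • (QuotientGroup.mk x : (P : Subgroup B) ⧸ W) = QuotientGroup.mk x :=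
        fun x => (eq_top_of_card_eq F (h16.trans hV.symm)).ge (mem_top _)
      refine hd (Subtype.ext ?_)
      obtain ⟨i, hi⟩ := hp d
      have hi' : (d : MulAut B) ^ 5 ^ i = 1 := congrArg Subtype.val hi
      refine hB.eq_one_of_odd (fun x hx => ?_) (m := 5 ^ i) (Odd.pow (by decide)) hi'
      obtain ⟨w, hwW, hdx⟩ : ∃ w : B, (w * w = 1 ∧ w ∈ (P : Subgroup B)) ∧ (d : MulAut B) x = x * w := by
        have h1 : (⟨x, hx⟩ : (P : Subgroup B))⁻¹ * ρ d ⟨x, hx⟩ ∈ W :=
          QuotientGroup.eq.1 (htop ⟨x, hx⟩).symm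
        exact ⟨_, ⟨h1, ((⟨x, hx⟩ : (P : Subgroup B))⁻¹ * ρ d ⟨x, hx⟩).2⟩, (mul_inv_cancel_left x _).symm⟩
      have hdw : (d : MulAut B) w = w := (hD d.2).2 w hwW.2 hwW.1
      have hpow : ∀ n : ℕ, ((d : MulAut B) ^ n) x = x * w ^ n := by
        intro n
        induction n with
        | zero => simp
        | succ n ih => rw [pow_succ', MulAut.mul_apply, ih, map_mul, hdx, map_pow, hdw, mul_assoc, pow_succ']
      have h1 := hpow (5 ^ i)
      rw [hi', MulAut.one_apply, left_eq_mul, (show 5 ^ i = 2 * (5 ^ i / 2) + 1 from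
        (Nat.two_mul_div_two_add_one_of_odd (Odd.pow (by decide))).symm), pow_succ, pow_mul, pow_two, hwW.1,
        one_pow, one_mul] at h1
      rw [hdx, h1, mul_one]
    have hdvd : Nat.card F ∣ 16 := hV ▸ card_subgroup_dvd_card F
    have hF1 : Nat.card F = 1 := by
      have hmod' : 16 % 5 = Nat.card F % 5 := hmod
      have := Nat.le_of_dvd (by norm_num) hdvd
      interval_cases Nat.card F <;> omega
    exact mem_bot.1 (card_eq_one.1 hF1 ▸ (hv : v ∈ F))
  haveI : Nontrivial ((P : Subgroup B) ⧸ W) := Finite.one_lt_card_iff_nontrivial.1 (by rw [hV]; norm_num)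
  obtain ⟨v₀, hv₀⟩ := exists_ne (1 : (P : Subgroup B) ⧸ W)
  have hinj : Function.Injective fun d : D => d • v₀ := fun d e he => by
    by_contra hne
    refine hv₀ (hfree (e⁻¹ * d) (fun h => hne (inv_mul_eq_one.1 h).symm) v₀ ?_)
    rw [mul_smul, show d • v₀ = e • v₀ from he, inv_smul_smul]
  have h16 := Nat.card_le_card_of_injective _ hinj
  rw [hV] at h16
  obtain ⟨i, hi⟩ := IsPGroup.iff_card.1 hp
  rw [hi] at h16 ⊢
  rcases i with _ | _ | i
  · norm_num
  · norm_num
  · have : 5 ^ 2 ≤ 5 ^ (i + 2) := Nat.pow_le_pow_right (by norm_num) (by omega)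
    omega

/-- An element of `fixGroup P` of order a power of five is inner, from `N(P)`. -/
theorem inner_of_five (hci : Function.Injective (MulAut.conj : B → MulAut B)) {φ : MulAut B}
    (hφ : φ ∈ fixGroup P) {j : ℕ} (hj : φ ^ 5 ^ j = 1) :
    ∃ b ∈ normalizer ((P : Subgroup B) : Set B), φ = MulAut.conj b := by
  haveI : Fact (Nat.Prime 5) := ⟨by norm_num⟩
  obtain ⟨r, hr, hrP, hrW, x, hx, hxr⟩ := U.five
  have hrN : r ∈ normalizer ((P : Subgroup B) : Set B) := mem_normalizer_iff.2 fun y => ⟨hrP y, fun hy => by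
    have h1 := hrP _ (hrP _ (hrP _ (hrP _ hy)))
    rwa [show r * (r * (r * (r * (r * y * r⁻¹) * r⁻¹) * r⁻¹) * r⁻¹) * r⁻¹ = (r * r * r * r * r) * y * (r * r * r * r * r)⁻¹ by
        simp only [mul_inv_rev, mul_assoc], show r * r * r * r * r = 1 by rw [← hr]; simp only [pow_succ, pow_zero, one_mul],
      one_mul, inv_one, mul_one] at h1⟩
  let A := fixGroup P
  let rA : A := ⟨MulAut.conj r, conj_mem_iff.2 hrN, hrW⟩
  let φA : A := ⟨φ, hφ⟩
  have hrA : orderOf rA = 5 := orderOf_eq_prime (Subtype.ext (by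
    show (MulAut.conj r) ^ 5 = 1
    rw [← map_pow, hr, map_one])) fun e => hxr (DFunLike.congr_fun (congrArg Subtype.val e) x)
  obtain ⟨D, hD⟩ := (IsPGroup.of_card (n := 1) (by rw [Nat.card_zpowers, hrA, pow_one]) :
    IsPGroup 5 (zpowers rA)).exists_le_sylow
  obtain ⟨D', hD'⟩ := (IsPGroup.of_card (n := _) (by
    rw [Nat.card_zpowers]
    exact ((Nat.dvd_prime_pow (by norm_num : Nat.Prime 5)).1 (orderOf_dvd_of_pow_eq_one
      (show φA ^ 5 ^ j = 1 from Subtype.ext hj))).choose_spec.2) : IsPGroup 5 (zpowers φA)).exists_le_sylow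
  have hle : Nat.card (D : Subgroup A) ≤ 5 := by
    rw [← card_map_of_injective (K := (D : Subgroup A)) A.subtype_injective]
    exact card_five_le hB U hcen htwo hW (map_subtype_le _) (D.isPGroup'.map _)
  have hDeq : zpowers rA = (D : Subgroup A) :=
    eq_of_le_of_card_ge hD (by rw [Nat.card_zpowers, hrA]; exact hle)
  obtain ⟨g, rfl⟩ := MulAction.exists_smul_eq A D D'
  have hφ' := hD' (mem_zpowers φA)
  rw [Sylow.coe_subgroup_smul] at hφ'
  obtain ⟨y, hy, e⟩ := hφ'
  rw [← hDeq] at hy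
  obtain ⟨n, rfl⟩ := mem_zpowers_iff.1 hy
  have he : φ = MulAut.conj ((g : MulAut B) (r ^ n)) := by
    have h1 : (g : MulAut B) * (MulAut.conj r) ^ n * (g : MulAut B)⁻¹ = φ := congrArg Subtype.val e
    rw [← h1]
    refine MulEquiv.ext fun w => ?_
    rw [← map_zpow, MulAut.mul_apply, MulAut.mul_apply, MulAut.conj_apply, MulAut.conj_apply, map_mul,
      map_mul, map_inv, MulAut.apply_inv_self]
  refine ⟨_, ?_, he⟩
  exact conj_mem_iff.1 (he ▸ hφ.1)

end

end Cfsg.Agent.Invol.CentRank
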