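import Cfsg.Agent.Lib.Invol.CentRank.Cover
import Cfsg.Agent.Lib.Invol.BenderCover.Main

/-!
# The Sylow subgroup of the cover

The trace of `S` maps onto a Sylow 2-subgroup `P` of the Bender group; the involutions of `P` are the images
of those of `Ω₁ Z(S)`, two Sylow subgroups meet trivially, and `N(S)` covers the normaliser of `P`.
-/

set_option autoImplicit false
set_option linter.style.haveILetI false
set_option linter.unusedSectionVars false

open Subgroup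

namespace Cfsg.Agent.Invol.CentRank

universe u

/-- The involutions of a Sylow 2-subgroup of a group with torus data: central, conjugate in the normaliser. -/
theorem torus_at {B : Type u} [Group B] [Finite B] (hB : BenderCover.TorusSylow B) (P : Sylow 2 B) :
    (∀ x ∈ (P : Subgroup B), x * x = 1 → ∀ y ∈ (P : Subgroup B), y * x = x * y) ∧
      (∀ a ∈ (P : Subgroup B), ∀ b ∈ (P : Subgroup B), orderOf a = 2 → orderOf b = 2 →
        ∃ n ∈ normalizer ((P : Subgroup B) : Set B), n * a * n⁻¹ = b) ∧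
      ∃ a ∈ (P : Subgroup B), ∃ b ∈ (P : Subgroup B), orderOf a = 2 ∧ orderOf b = 2 ∧ a ≠ b := by
  haveI : Fact (Nat.Prime 2) := ⟨Nat.prime_two⟩
  obtain ⟨Pb, W, hp, hi, hWP, hW2, hWc, hinv, -, ⟨a₀, ha₀, b₀, hb₀, ha₁, hb₁, hab⟩, htr, -⟩ := hB
  obtain ⟨g, hg⟩ := MulAction.exists_smul_eq B (hp.toSylow hi) P
  have hmem : ∀ x, x ∈ (P : Subgroup B) ↔ g⁻¹ * x * g ∈ Pb := fun x => by
    rw [← hg, mem_smul_sylow]; rfl
  have hsq : ∀ x, x * x = 1 → (g⁻¹ * x * g) * (g⁻¹ * x * g) = 1 := fun x hx => by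
    calc (g⁻¹ * x * g) * (g⁻¹ * x * g) = g⁻¹ * (x * x) * g := by group
      _ = 1 := by rw [hx, mul_one, inv_mul_cancel]
  have hcen : ∀ x ∈ (P : Subgroup B), x * x = 1 → ∀ y ∈ (P : Subgroup B), y * x = x * y := by
    intro x hx hx2 y hy
    have e := hWc _ (hinv _ ((hmem x).1 hx) (hsq x hx2)) _ ((hmem y).1 hy)
    calc y * x = g * ((g⁻¹ * y * g) * (g⁻¹ * x * g)) * g⁻¹ := by group
      _ = g * ((g⁻¹ * x * g) * (g⁻¹ * y * g)) * g⁻¹ := by rw [e]
      _ = x * y := by group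
  refine ⟨hcen, fun a ha b hb ha2 hb2 => ?_, g * a₀ * g⁻¹,
    (hmem _).2 (by simpa [mul_assoc] using hWP ha₀), g * b₀ * g⁻¹,
    (hmem _).2 (by simpa [mul_assoc] using hWP hb₀),
    by rw [orderOf_conj_eq]; exact orderOf_two_iff.2 ⟨hW2 _ ha₀, ha₁⟩,
    by rw [orderOf_conj_eq]; exact orderOf_two_iff.2 ⟨hW2 _ hb₀, hb₁⟩, fun e => hab (by simpa using e)⟩
  have hne : ∀ x, orderOf x = 2 → g⁻¹ * x * g ≠ 1 := fun x hx e => ne_one_of_orderOf_two hx (by
    calc x = g * (g⁻¹ * x * g) * g⁻¹ := by group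
      _ = 1 := by rw [e, mul_one, mul_inv_cancel])
  obtain ⟨c, hc⟩ := htr _ (hinv _ ((hmem a).1 ha) (hsq a (mul_self_of_orderOf_two ha2))) _
    (hinv _ ((hmem b).1 hb) (hsq b (mul_self_of_orderOf_two hb2))) (hne a ha2) (hne b hb2)
  have hc' : (g * c * g⁻¹) * a * (g * c * g⁻¹)⁻¹ = b := by
    calc (g * c * g⁻¹) * a * (g * c * g⁻¹)⁻¹ = g * (c * (g⁻¹ * a * g) * c⁻¹) * g⁻¹ := by group
      _ = g * (g⁻¹ * b * g) * g⁻¹ := by rw [hc]
      _ = b := by group
  obtain ⟨n, hn, he⟩ := Sylow.conj_eq_normalizer_conj_of_mem_centralizer P a (g * c * g⁻¹)⁻¹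
    (mem_centralizer_iff.2 fun y hy => hcen a ha (mul_self_of_orderOf_two ha2) y hy) (by
      rw [inv_inv, hc']
      exact mem_centralizer_iff.2 fun y hy => hcen b hb (mul_self_of_orderOf_two hb2) y hy)
  refine ⟨n⁻¹, inv_mem hn, ?_⟩
  rw [inv_inv] at he
  rw [inv_inv, ← he, hc']

variable {G : Type u} [Group G] [Finite G] {S : Sylow 2 G} {z : G} {B : Type u} [Group B] [Finite B]
  (c : Cover S z B)
include c

theorem Cover.sylow_le : (S : Subgroup G) ≤ centralizer ({z} : Set G) := fun _ hs =>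
  mem_centralizer_singleton_iff.2 (zg_commute c.hz hs)

/-- `S ∩ K` as a Sylow 2-subgroup of `K`. -/
theorem Cover.relIndex : ¬ 2 ∣ (S : Subgroup G).relIndex (conjClosure S z) := by
  haveI : Fact (Nat.Prime 2) := ⟨Nat.prime_two⟩
  haveI : ((conjClosure S z).subgroupOf (centralizer ({z} : Set G))).Normal :=
    ⟨fun x hx g => conjClosure_conj g.2 hx⟩
  have := Grp.sylow_inf_normal_relIndex (S.subtype c.sylow_le)
    ((conjClosure S z).subgroupOf (centralizer ({z} : Set G)))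
  rwa [Sylow.coe_subtype, relIndex_subgroupOf (conjClosure_le c.hz)] at this

noncomputable def Cover.sylT : Sylow 2 ↥(conjClosure S z) :=
  haveI : Fact (Nat.Prime 2) := ⟨Nat.prime_two⟩
  (S.isPGroup'.comap_subtype (K := conjClosure S z)).toSylow c.relIndex

noncomputable def Cover.sylP : Sylow 2 B :=
  haveI : Fact (Nat.Prime 2) := ⟨Nat.prime_two⟩
  c.sylT.mapSurjective c.surj

theorem Cover.mem_sylP {w : B} :
    w ∈ (c.sylP : Subgroup B) ↔ ∃ k : ↥(conjClosure S z), (k : G) ∈ (S : Subgroup G) ∧ c.π k = w :=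
  Iff.rfl

theorem Cover.ker_mem_sylow {k : ↥(conjClosure S z)} (hk : c.π k = 1) (hkS : (k : G) ∈ (S : Subgroup G)) :
    (k : G) = 1 ∨ (k : G) = z := by
  obtain ⟨o, ho, e⟩ := c.ker k hk
  have hoS : o ∈ (S : Subgroup G) := by
    rcases e with e | e
    · exact e ▸ hkS
    · have := mul_mem hkS (inv_mem (zg_le S c.hz))
      rwa [e, mul_inv_cancel_right] at this
  obtain ⟨n, hn⟩ := S.isPGroup' ⟨o, hoS⟩
  have hn' : o ^ 2 ^ n = 1 := congrArg Subtype.val hn
  have ho1 : o = 1 := orderOf_eq_one_iff.1 <| Nat.eq_one_of_dvd_coprimes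
    ((Nat.coprime_two_right.2 (centralizerCore_odd z)).pow_right n).symm (orderOf_dvd_of_pow_eq_one hn')
    (Subgroup.orderOf_dvd_natCard _ ho)
  rcases e with e | e <;> rw [e, ho1]
  · exact Or.inl rfl
  · exact Or.inr (one_mul z)

/-- A 2-element of `K` mapping into `P` lies in `S`. -/
theorem Cover.mem_sylow_of_two {k : ↥(conjClosure S z)} {n : ℕ} (hk : (k : G) ^ 2 ^ n = 1)
    (hP : c.π k ∈ (c.sylP : Subgroup B)) : (k : G) ∈ (S : Subgroup G) := by
  obtain ⟨t, ht, e⟩ := c.mem_sylP.1 hP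
  obtain ⟨o, ho, e'⟩ := c.ker (t⁻¹ * k) (by rw [map_mul, map_inv, e, inv_mul_cancel])
  rw [Subgroup.coe_mul, InvMemClass.coe_inv] at e'
  obtain ⟨s, hs, hsK, hks⟩ : ∃ s ∈ (S : Subgroup G), s ∈ conjClosure S z ∧ (k : G) = s * o := by
    have hzK : z ∈ conjClosure S z := zg_le_conjClosure S z c.hz
    rcases e' with e' | e'
    · exact ⟨t, ht, t.2, by rw [← e', mul_inv_cancel_left]⟩
    · refine ⟨(t : G) * z, mul_mem ht (zg_le S c.hz), mul_mem t.2 hzK, ?_⟩
      rw [inv_mul_eq_iff_eq_mul.1 e', mul_assoc (t : G) z o, commute_core c.hz c.core ho hzK]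
  have hso : Commute s o := commute_core c.hz c.core ho hsK
  obtain ⟨j, hj⟩ := S.isPGroup' ⟨s, hs⟩
  have hj' : s ^ 2 ^ j = 1 := congrArg Subtype.val hj
  have h1 : o ^ 2 ^ (n + j) = 1 := by
    have e1 : (k : G) ^ 2 ^ (n + j) = 1 := by rw [pow_add, pow_mul, hk, one_pow]
    have e2 : s ^ 2 ^ (n + j) = 1 := by rw [pow_add, mul_comm, pow_mul, hj', one_pow]
    rwa [hks, hso.mul_pow, e2, one_mul] at e1
  have ho1 : o = 1 := orderOf_eq_one_iff.1 <| Nat.eq_one_of_dvd_coprimes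
    ((Nat.coprime_two_right.2 (centralizerCore_odd z)).pow_right (n + j)).symm
    (orderOf_dvd_of_pow_eq_one h1) (Subgroup.orderOf_dvd_natCard _ ho)
  rwa [hks, ho1, mul_one]

theorem Cover.map_invol {a : G} (ha : a ∈ zg S) (ha1 : a ≠ 1) (haz : a ≠ z) :
    orderOf (c.π ⟨a, zg_le_conjClosure S z ha⟩) = 2 ∧
      c.π ⟨a, zg_le_conjClosure S z ha⟩ ∈ (c.sylP : Subgroup B) := by
  refine ⟨orderOf_eq_prime ?_ fun e => ?_, c.mem_sylP.2 ⟨_, zg_le S ha, rfl⟩⟩
  · rw [← map_pow, show (⟨a, zg_le_conjClosure S z ha⟩ : ↥(conjClosure S z)) ^ 2 = 1 from Subtype.ext (by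
      rw [SubmonoidClass.coe_pow, pow_two]; exact (mem_zg.1 ha).2.1), map_one]
  · rcases c.ker_mem_sylow e (zg_le S ha) with e' | e'
    · exact ha1 e'
    · exact haz e'

theorem Cover.exists_other_zg : ∃ a ∈ zg S, a ≠ 1 ∧ a ≠ z := by
  by_contra hcon
  push Not at hcon
  have htriv : ∀ k : ↥(conjClosure S z), c.π k = 1 := by
    rintro ⟨k, hk⟩
    have hz' : ∀ k : ↥(conjClosure S z), (k : G) = 1 ∨ (k : G) = z → c.π k = 1 := fun k hk => by
      rcases hk with e | e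
      · rw [show k = 1 from Subtype.ext e, map_one]
      · exact c.ker_z k e
    induction hk using closure_induction with
    | mem y hy =>
      refine hz' _ ?_
      obtain ⟨d, hd, a, ha, rfl⟩ := hy
      rcases eq_or_ne a 1 with rfl | h1
      · exact Or.inl (by simp)
      · refine Or.inr ?_
        show d * a * d⁻¹ = z
        rw [hcon a ha h1, mem_centralizer_singleton_iff.1 hd, mul_inv_cancel_right]
    | one => exact hz' _ (Or.inl rfl)
    | mul y w hy hw ey ew =>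
      show c.π ((⟨y, hy⟩ : ↥(conjClosure S z)) * ⟨w, hw⟩) = 1
      rw [map_mul, ey, ew, one_mul]
    | inv y hy ey =>
      show c.π (⟨y, hy⟩ : ↥(conjClosure S z))⁻¹ = 1
      rw [map_inv, ey, inv_one]
  obtain ⟨a, -, b, -, ha, -⟩ := (torus_at (BenderCover.torusSylow_bender c.bender) c.sylP).2.2
  obtain ⟨k, rfl⟩ := c.surj a
  rw [htriv, orderOf_one] at ha
  omega

variable (h : FourUnique G)
include h

/-- An element of `K` over `N(P)` normalises `S`. -/
theorem Cover.mem_normalizer {k : ↥(conjClosure S z)}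
    (hk : c.π k ∈ normalizer ((c.sylP : Subgroup B) : Set B)) :
    (k : G) ∈ normalizer ((S : Subgroup G) : Set G) := by
  obtain ⟨a, ha, ha1, haz⟩ := c.exists_other_zg
  have key : ∀ x : G, x ∈ zg S → (k : G) * x * (k : G)⁻¹ ∈ (S : Subgroup G) := fun x hx => by
    let x' : ↥(conjClosure S z) := ⟨x, zg_le_conjClosure S z hx⟩
    refine c.mem_sylow_of_two (k := k * x' * k⁻¹) (n := 1) ?_ ?_
    · show ((k : G) * x * (k : G)⁻¹) ^ 2 ^ 1 = 1
      rw [pow_one, conj_pow, pow_two, (mem_zg.1 hx).2.1, mul_one, mul_inv_cancel]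
    · rw [map_mul, map_mul, map_inv]
      exact (mem_normalizer_iff.1 hk _).1 (c.mem_sylP.2 ⟨x', zg_le S hx, rfl⟩)
  exact mem_normalizer_of_pair h c.hz c.hz1 (twoCentral_of_mem ha ha1).1 (zg_le S ha) haz (key z c.hz)
    (key a ha)

theorem Cover.map_normalizer {k : ↥(conjClosure S z)} (hk : (k : G) ∈ normalizer ((S : Subgroup G) : Set G)) :
    c.π k ∈ normalizer ((c.sylP : Subgroup B) : Set B) := by
  have hone : ∀ k : ↥(conjClosure S z), (k : G) ∈ normalizer ((S : Subgroup G) : Set G) →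
      ∀ w ∈ (c.sylP : Subgroup B), c.π k * w * (c.π k)⁻¹ ∈ (c.sylP : Subgroup B) := by
    intro k hk w hw
    obtain ⟨t, ht, rfl⟩ := c.mem_sylP.1 hw
    exact c.mem_sylP.2 ⟨k * t * k⁻¹, (mem_normalizer_iff.1 hk _).1 ht, by simp⟩
  refine mem_normalizer_iff.2 fun w => ⟨hone k hk w, fun hw => ?_⟩
  have h1 := hone k⁻¹ (inv_mem hk) _ hw
  simpa [mul_assoc] using h1

/-- The involutions of `P` come from `Ω₁ Z(S)`. -/
theorem Cover.exists_zg {w : B} (hw : w ∈ (c.sylP : Subgroup B)) (hw2 : orderOf w = 2) :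
    ∃ a ∈ zg S, a ≠ 1 ∧ a ≠ z ∧ ∃ a' : ↥(conjClosure S z), (a' : G) = a ∧ c.π a' = w := by
  obtain ⟨a, ha, ha1, haz⟩ := c.exists_other_zg
  obtain ⟨hi, hP⟩ := c.map_invol ha ha1 haz
  obtain ⟨n, hn, e⟩ := (torus_at (BenderCover.torusSylow_bender c.bender) c.sylP).2.1 _ hP _ hw hi hw2
  obtain ⟨k, rfl⟩ := c.surj n
  have hkS := c.mem_normalizer h hn
  have hb : (k : G) * a * (k : G)⁻¹ ∈ zg S := (stronglyClosed_zg h S).2 a ha k
    ((mem_normalizer_iff.1 hkS a).1 (zg_le S ha))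
  refine ⟨_, hb, ?_, ?_, k * ⟨a, zg_le_conjClosure S z ha⟩ * k⁻¹, rfl, by
    rw [map_mul, map_mul, map_inv]; exact e⟩
  · intro he
    exact ha1 (conj_eq_one_iff.1 he)
  · intro he
    refine haz ?_
    calc a = (k : G)⁻¹ * ((k : G) * a * (k : G)⁻¹) * k := by group
      _ = z := by rw [he, mul_assoc, ← mem_centralizer_singleton_iff.1 (conjClosure_le c.hz k.2),
          inv_mul_cancel_left]

/-- Two members of `Ω₁ Z(S)` outside `⟨z⟩` are conjugate up to `z` under `N(S) ∩ C(z)`. -/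
theorem Cover.exists_move {a b : G} (ha : a ∈ zg S) (ha1 : a ≠ 1) (haz : a ≠ z) (hb : b ∈ zg S)
    (hb1 : b ≠ 1) (hbz : b ≠ z) :
    ∃ m ∈ normalizer ((S : Subgroup G) : Set G), m ∈ centralizer ({z} : Set G) ∧
      (m * a * m⁻¹ = b ∨ m * a * m⁻¹ = b * z) := by
  obtain ⟨hi, hP⟩ := c.map_invol ha ha1 haz
  obtain ⟨hi', hP'⟩ := c.map_invol hb hb1 hbz
  obtain ⟨n, hn, e⟩ := (torus_at (BenderCover.torusSylow_bender c.bender) c.sylP).2.1 _ hP _ hP' hi hi'
  obtain ⟨k, rfl⟩ := c.surj n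
  have hkS := c.mem_normalizer h hn
  refine ⟨k, hkS, conjClosure_le c.hz k.2, ?_⟩
  set x : ↥(conjClosure S z) :=
    (⟨b, zg_le_conjClosure S z hb⟩ : ↥(conjClosure S z))⁻¹ * (k * ⟨a, zg_le_conjClosure S z ha⟩ * k⁻¹) with hx
  have hx1 : c.π x = 1 := by
    rw [hx, map_mul, map_inv, map_mul, map_mul, map_inv, e, inv_mul_cancel]
  rcases c.ker_mem_sylow hx1 (mul_mem (inv_mem (zg_le S hb)) ((mem_normalizer_iff.1 hkS a).1 (zg_le S ha))) with
    e' | e'
  · exact Or.inl (inv_mul_eq_one.1 e').symm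
  · exact Or.inr (inv_mul_eq_iff_eq_mul.1 e')

/-- Distinct Sylow 2-subgroups of `B` meet trivially. -/
theorem Cover.ti {g : B} {x : B} (hx : x ∈ (c.sylP : Subgroup B)) (hx1 : x ≠ 1)
    (hgx : g * x * g⁻¹ ∈ (c.sylP : Subgroup B)) : g ∈ normalizer ((c.sylP : Subgroup B) : Set B) := by
  obtain ⟨j, hj⟩ := c.sylP.isPGroup' ⟨x, hx⟩
  have hj' : x ^ 2 ^ j = 1 := congrArg Subtype.val hj
  obtain ⟨i, -, hi⟩ := (Nat.dvd_prime_pow Nat.prime_two).1 (orderOf_dvd_of_pow_eq_one hj')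
  obtain ⟨i, rfl⟩ : ∃ i', i = i' + 1 := ⟨i - 1, by
    rcases i with _ | i
    · exact absurd (orderOf_eq_one_iff.1 (by rw [hi, pow_zero])) hx1
    · omega⟩
  set w := x ^ 2 ^ i with hw
  have hw2 : orderOf w = 2 := by
    rw [hw, orderOf_pow' x (pow_ne_zero _ two_ne_zero), hi, Nat.gcd_eq_right (pow_dvd_pow 2 (by omega)),
      pow_succ', Nat.mul_div_cancel _ (Nat.two_pow_pos i)]
  have hgw : g * w * g⁻¹ ∈ (c.sylP : Subgroup B) := by rw [hw, ← conj_pow]; exact pow_mem hgx _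
  obtain ⟨a, ha, ha1, haz, a', rfl, ea⟩ := c.exists_zg h (pow_mem hx _) hw2
  obtain ⟨k, rfl⟩ := c.surj g
  refine c.map_normalizer h ?_
  have h1 : (k : G) * a' * (k : G)⁻¹ ∈ (S : Subgroup G) := by
    refine c.mem_sylow_of_two (k := k * a' * k⁻¹) (n := 1) ?_ ?_
    · show ((k : G) * a' * (k : G)⁻¹) ^ 2 ^ 1 = 1
      rw [pow_one, conj_pow, pow_two, (mem_zg.1 ha).2.1, mul_one, mul_inv_cancel]
    · rw [map_mul, map_mul, map_inv, ea]; exact hgw
  refine mem_normalizer_of_pair h c.hz c.hz1 (twoCentral_of_mem ha ha1).1 (zg_le S ha) haz ?_ h1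
  rw [mem_centralizer_singleton_iff.1 (conjClosure_le c.hz k.2), mul_inv_cancel_right]
  exact zg_le S c.hz

end Cfsg.Agent.Invol.CentRank
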