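import Cfsg.Agent.Lib.Invol.CentRank.Unitary
import Cfsg.Agent.Lib.Invol.CentRank.Five
import Cfsg.Agent.Lib.Invol.GW.Consumers.AbelianSylow
import Cfsg.Agent.Lib.Invol.GW.Dihedral.ThreeDoneFinal
import Cfsg.Agent.Lib.Invol.QuasiDihedralKernel
import Cfsg.Agent.Lib.Invol.Wreathed

/-!
# Simple groups whose central Sylow 2-intersections have rank one

In rank two the Sylow subgroup is a four group or of `PSU(3, 4)` type, as its centre has three involutions.  Then
the odd cores of the centralisers of `Ω₁ Z(S)` normalise `S`, and either these centralisers normalise `S` too or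
one of them covers `SL(2, 4)`.
-/

set_option autoImplicit false
set_option linter.style.haveILetI false
set_option linter.unusedSectionVars false

open Subgroup

namespace Cfsg.Agent.Invol.CentRank

universe u

variable {G : Type u} [Group G] [Finite G]

theorem dihedral_central_invol {n : ℕ} (hn : 3 ≤ n) {a b : DihedralGroup n}
    (ha : ∀ x, x * a = a * x) (hb : ∀ x, x * b = b * x) (ha2 : a * a = 1) (hb2 : b * b = 1)
    (ha1 : a ≠ 1) (hb1 : b ≠ 1) : a = b := by
  haveI : NeZero n := ⟨by omega⟩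
  have hrot : ∀ c : DihedralGroup n, (∀ x, x * c = c * x) → c * c = 1 → c ≠ 1 →
      ∃ i : ZMod n, c = DihedralGroup.r i ∧ 2 * i.val = n := by
    intro c hc hc2 hc1
    cases c with
    | r i =>
      refine ⟨i, rfl, ?_⟩
      rw [DihedralGroup.r_mul_r, ← DihedralGroup.r_zero, DihedralGroup.r.injEq] at hc2
      have hd : n ∣ i.val + i.val := by
        rw [← ZMod.natCast_eq_zero_iff, Nat.cast_add, ZMod.natCast_zmod_val, hc2]
      have hi0 : i.val ≠ 0 := fun e => hc1 (by rw [(ZMod.val_eq_zero i).1 e, DihedralGroup.r_zero])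
      have hlt := ZMod.val_lt i
      obtain ⟨k, hk⟩ := hd
      rcases k with _ | _ | k
      · omega
      · omega
      · rw [Nat.mul_succ, Nat.mul_succ] at hk
        omega
    | sr i =>
      exfalso
      have h1 := hc (DihedralGroup.r 1)
      rw [DihedralGroup.r_mul_sr, DihedralGroup.sr_mul_r, DihedralGroup.sr.injEq] at h1
      have h3 : ((2 : ℕ) : ZMod n) = 0 := by
        push_cast
        linear_combination -h1
      have := Nat.le_of_dvd two_pos ((ZMod.natCast_eq_zero_iff _ _).1 h3)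
      omega
  obtain ⟨i, rfl, hi⟩ := hrot a ha ha2 ha1
  obtain ⟨j, rfl, hj⟩ := hrot b hb hb2 hb1
  rw [ZMod.val_injective n (show i.val = j.val by omega)]

variable (h : FourUnique G)
include h

/-- `Z(S)` has two distinct involutions. -/
theorem exists_two_central [IsSimpleGroup G] (hna : ¬ IsMulCommutative G) {S : Sylow 2 G} {z : G}
    (hz : z ∈ zg S) (hz1 : z ≠ 1) : ∃ a b : ↥(S : Subgroup G), (∀ x, x * a = a * x) ∧ (∀ x, x * b = b * x) ∧
      a * a = 1 ∧ b * b = 1 ∧ a ≠ 1 ∧ b ≠ 1 ∧ a ≠ b := by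
  obtain ⟨n, hn, hnz⟩ := exists_moving h hna hz hz1
  have hw : n * z * n⁻¹ ∈ zg S := (stronglyClosed_zg h S).2 z hz n ((mem_normalizer_iff.1 hn z).1 (zg_le S hz))
  have hw1 : n * z * n⁻¹ ≠ 1 := fun e => hz1 (conj_eq_one_iff.1 e)
  exact ⟨⟨z, zg_le S hz⟩, ⟨_, zg_le S hw⟩, fun x => Subtype.ext (zg_commute hz x.2),
    fun x => Subtype.ext (zg_commute hw x.2), Subtype.ext (mem_zg.1 hz).2.1, Subtype.ext (mem_zg.1 hw).2.1,
    fun e => hz1 (congrArg Subtype.val e), fun e => hw1 (congrArg Subtype.val e),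
    fun e => hnz (congrArg Subtype.val e).symm⟩

theorem false_of_cyclic_center [IsSimpleGroup G] (hna : ¬ IsMulCommutative G) {S : Sylow 2 G} {z : G}
    (hz : z ∈ zg S) (hz1 : z ≠ 1) [hc : IsCyclic ↥(center ↥(S : Subgroup G))] : False := by
  obtain ⟨a, b, ha, hb, ha2, hb2, ha1, hb1, hab⟩ := exists_two_central h hna hz hz1
  exact hab (congrArg Subtype.val (Invol.involution_unique_of_isCyclic
    (x := (⟨a, mem_center_iff.2 ha⟩ : ↥(center ↥(S : Subgroup G))))
    (y := ⟨b, mem_center_iff.2 hb⟩)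
    (orderOf_two_iff.2 ⟨Subtype.ext ha2, fun e => ha1 (congrArg Subtype.val e)⟩)
    (orderOf_two_iff.2 ⟨Subtype.ext hb2, fun e => hb1 (congrArg Subtype.val e)⟩)))

omit h in
theorem concl_of_pslTwo [IsSimpleGroup G] (hp : GW.IsPSLTwoAbelianSylow G) : Concl G := by
  obtain ⟨F, i1, i2, hq | ⟨n, hn, hq⟩, ⟨e⟩⟩ := hp
  · rcases eq_or_lt_of_le hq.2 with h5 | h5
    · exact concl_five h5.symm e
    · exact Or.inr (Or.inr (Or.inr (Or.inl ⟨F, i1, i2, hq.1, h5, ⟨e⟩⟩)))
  · exact Or.inl ⟨n, F, i1, i2, hn, hq, ⟨e⟩⟩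

theorem classify_split [IsSimpleGroup G] (hna : ¬ IsMulCommutative G) (hG1 : CoreInNormalizer G) (S : Sylow 2 G) :
    Concl G ∧ ((∀ x ∈ (S : Subgroup G), ∀ y ∈ (S : Subgroup G), x * y = y * x) ∨
      Cfsg.IsStronglyPEmbedded 2 (normalizer ((S : Subgroup G) : Set G))) := by
  haveI : Fact (Nat.Prime 2) := ⟨Nat.prime_two⟩
  have heven : Even (Nat.card G) := Nat.not_odd_iff_even.1 fun ho => hna
    ⟨⟨IsSimpleGroup.comm_iff_isSolvable.2 (S0205.result ho)⟩⟩
  have hSne : (S : Subgroup G) ≠ ⊥ := by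
    intro e
    have hd : 2 ^ 1 ∣ Nat.card (S : Subgroup G) :=
      S.pow_dvd_card_of_pow_dvd_card (by rw [pow_one]; exact even_iff_two_dvd.1 heven)
    rw [e, card_bot] at hd
    norm_num at hd
  obtain ⟨z, hz, hz1⟩ := exists_invol_center S hSne
  suffices hcore : (∀ a ∈ zg S, a ≠ 1 →
      Cfsg.centralizerPPrimeCore 2 a ≤ normalizer ((S : Subgroup G) : Set G)) ∨
        (Concl G ∧ ∀ x ∈ (S : Subgroup G), ∀ y ∈ (S : Subgroup G), x * y = y * x) by
    rcases hcore with hcore | hc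
    swap
    · exact ⟨hc.1, Or.inl hc.2⟩
    by_cases hall : ∀ a ∈ zg S, a ≠ 1 → centralizer ({a} : Set G) ≤ normalizer ((S : Subgroup G) : Set G)
    · exact ⟨concl_of_centralizers h hna hz hz1 hall, Or.inr (spEmbedded_of_overgroup h hna hz hz1 le_rfl
        (sylow_normalizer_ne_top h hna fun e => hz1 (mem_bot.1 (e ▸ zg_le S hz))) hall)⟩
    push Not at hall
    obtain ⟨a, ha, ha1, hC⟩ := hall
    obtain ⟨n, hn, hna'⟩ := exists_moving h hna ha ha1
    have hw : n * a * n⁻¹ ∈ zg S := (stronglyClosed_zg h S).2 a ha n ((mem_normalizer_iff.1 hn a).1 (zg_le S ha))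
    obtain ⟨B, i1, i2, ⟨c⟩⟩ := exists_cover h ha ha1 (hcore a ha ha1) hC hw
      (fun e => ha1 (conj_eq_one_iff.1 e)) hna'
    rcases c.two_cases h hna with ⟨hB, hP⟩ | U
    · exact ⟨c.concl_five h hP hna hB hcore, Or.inl fun x hx y hy =>
        (zg_commute (c.sylow_eq_zg h hP hna hy) hx)⟩
    · exact (c.not_unit h hna U).elim
  by_cases hr : Cfsg.PRankLE 2 2 (S : Subgroup G)
  swap
  · exact Or.inl fun a ha ha1 => core_le_normalizer h hr ha ha1
  have hrX : Cfsg.PRankLE 2 2 G := by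
    intro A hA hA2
    obtain ⟨T, hT⟩ := (Grp.elemAb_isPGroup (p := 2) ⟨hA, hA2⟩).exists_le_sylow
    have h := Block.CpQuot.pRankLE_congr (Sylow.equiv S T) hr (A.subgroupOf (T : Subgroup G))
      ⟨⟨fun a b => Subtype.ext (Subtype.ext (congrArg Subtype.val (hA.is_comm.comm ⟨_, a.2⟩ ⟨_, b.2⟩) :))⟩⟩
      fun a ha => Subtype.ext (hA2 _ ha)
    rwa [Nat.card_congr (subgroupOfEquivOfLe hT).toEquiv] at h
  letI : Fintype (GaloisField 2 4) := Fintype.ofFinite _
  have hF : Fintype.card (GaloisField 2 4) = 16 := by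
    rw [← Nat.card_eq_fintype_card, GaloisField.card 2 4 (by norm_num)]
    norm_num
  obtain ⟨P⟩ : Nonempty (Sylow 2 (Cfsg.PSU 3 (GaloisField 2 4) 4)) := inferInstance
  rcases OddUse.simple_rank_two_sylow hna heven hrX S hF P with ⟨m, hm, ⟨e⟩⟩ | hq | hq | ⟨⟨e⟩⟩
  · rcases eq_or_lt_of_le hm with hm2 | hm3
    · have hab : ∀ a b : ↥(S : Subgroup G), a * b = b * a := fun a b => e.injective (by
        subst hm2
        have hcomm : ∀ x y : DihedralGroup 2, x * y = y * x := by decide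
        rw [map_mul, map_mul]
        exact hcomm _ _)
      exact Or.inr ⟨concl_of_pslTwo (GW.simple_small_rank GW.Dihedral.gwStatement_holds hna heven S ⟨⟨hab⟩⟩ hr),
        fun x hx y hy => congrArg Subtype.val (hab ⟨x, hx⟩ ⟨y, hy⟩)⟩
    · exfalso
      obtain ⟨a, b, ha, hb, ha2, hb2, ha1, hb1, hab⟩ := exists_two_central h hna hz hz1
      have hcen : ∀ c : ↥(S : Subgroup G), (∀ x, x * c = c * x) → ∀ x, x * e c = e c * x := fun c hc x => by
        rw [← e.apply_symm_apply x, ← map_mul, ← map_mul, hc]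
      exact hab (e.injective (dihedral_central_invol hm3 (hcen a ha) (hcen b hb)
        (by rw [← map_mul, ha2, map_one]) (by rw [← map_mul, hb2, map_one])
        (fun e' => ha1 (e.injective (e'.trans (map_one e).symm)))
        (fun e' => hb1 (e.injective (e'.trans (map_one e).symm)))))
  · exfalso
    obtain ⟨n, x, y, hQ⟩ := Invol.exists_qd hq
    haveI : IsCyclic ↥(center ↥(S : Subgroup G)) := by
      rw [hQ.center_eq]
      infer_instance
    exact false_of_cyclic_center h hna hz hz1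
  · exfalso
    obtain ⟨n, x, y, w, hW⟩ := Invol.exists_wr hq
    haveI : IsCyclic ↥(center ↥(S : Subgroup G)) := by
      rw [hW.center_eq]
      infer_instance
    exact false_of_cyclic_center h hna hz hz1
  · exact Or.inl fun a ha ha1 => hG1 (GaloisField 2 4) inferInstance inferInstance hF P S ⟨e⟩ a ha ha1

theorem classify [IsSimpleGroup G] (hna : ¬ IsMulCommutative G) (hG1 : CoreInNormalizer G) : Concl G := by
  obtain ⟨S⟩ : Nonempty (Sylow 2 G) := inferInstance
  exact (classify_split h hna hG1 S).1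

end Cfsg.Agent.Invol.CentRank
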