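import Cfsg.Agent.Lib.Invol.CentRank.Local
import Cfsg.Agent.Lib.Invol.OddTransitive.Main

/-!
# `N(S)` is transitive on `Ω₁ Z(S)`, which has order eight

The orbit of `z` has odd size and takes one or both of `a, a z` for each `a` outside `⟨z⟩`, so it is everything.
An odd group transitive on the non-zero vectors is semilinear over one field, so the stabiliser of `z` moves a
vector to at most `n` places, where `2 ^ n = |Ω₁ Z(S)|`.
-/

set_option autoImplicit false
set_option linter.style.haveILetI false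
set_option linter.unusedSectionVars false

open Subgroup
open scoped IsMulCommutative

namespace Cfsg.Agent.Invol.CentRank

universe u

theorem card_ringAut_le {F : Type} [Field F] [Fintype F] {n : ℕ} (hn : Fintype.card F = 2 ^ n) (hn0 : n ≠ 0) :
    Nat.card (F ≃+* F) ≤ n := by
  haveI : Fact (Nat.Prime 2) := ⟨Nat.prime_two⟩
  haveI : CharP F 2 := by
    obtain ⟨r, hr⟩ := CharP.exists F
    haveI := hr
    obtain ⟨m, hrp, hm⟩ := FiniteField.card F r
    rw [hn] at hm
    have h2 : 2 ∣ r ^ (m : ℕ) := hm ▸ dvd_pow_self 2 hn0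
    exact ((Nat.prime_dvd_prime_iff_eq Nat.prime_two hrp).1 (Nat.prime_two.dvd_of_dvd_pow h2)).symm ▸ hr
  letI := ZMod.algebra F 2
  classical
  have hfin : Module.finrank (ZMod 2) F = n := by
    have h := Module.natCard_eq_pow_finrank (K := ZMod 2) (V := F)
    rw [Nat.card_eq_fintype_card, hn, Nat.card_zmod] at h
    exact (Nat.pow_right_injective le_rfl h).symm
  let f : (F ≃+* F) → (F ≃ₐ[ZMod 2] F) := fun e => AlgEquiv.ofRingEquiv (f := e) fun x =>
    RingHom.congr_fun (Subsingleton.elim ((e : F →+* F).comp (algebraMap (ZMod 2) F)) (algebraMap (ZMod 2) F)) x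
  have hf : Function.Injective f := fun a b e => RingEquiv.ext fun x => AlgEquiv.congr_fun e x
  refine (Nat.card_le_card_of_injective f hf).trans ?_
  rw [Nat.card_eq_fintype_card]
  exact AlgEquiv.card_le.trans hfin.le

variable {G : Type u} [Group G] [Finite G]

theorem eq_two_mul_ncard {S : Sylow 2 G} {z : G} (hz : z ∈ zg S) {T : Set G}
    (hT : ∀ x ∈ T, x ∈ zg S ∧ x ≠ 1 ∧ x ≠ z) (hcov : ∀ x ∈ zg S, x ≠ 1 → x ≠ z → x ∈ T ∨ x * z ∈ T)
    (hex : ∀ x ∈ T, x * z ∉ T) (hz1 : z ≠ 1) : Nat.card (zg S) = 2 + 2 * T.ncard := by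
  have hzz : z * z = 1 := (mem_zg.1 hz).2.1
  have heq : (zg S : Set G) = ({1, z} ∪ T) ∪ (fun x => x * z) '' T := by
    ext x
    constructor
    · intro hx
      by_cases h1 : x = 1
      · exact Or.inl (Or.inl (Or.inl h1))
      by_cases h2 : x = z
      · exact Or.inl (Or.inl (Or.inr h2))
      rcases hcov x hx h1 h2 with e | e
      · exact Or.inl (Or.inr e)
      · exact Or.inr ⟨x * z, e, by simp [mul_assoc, hzz]⟩
    · rintro (((rfl | rfl) | hx) | ⟨y, hy, rfl⟩)
      · exact one_mem _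
      · exact hz
      · exact (hT x hx).1
      · exact mul_mem (hT y hy).1 hz
  have hd1 : Disjoint ({1, z} : Set G) T := Set.disjoint_left.2 fun x hx hxT => by
    rcases hx with rfl | rfl
    · exact (hT _ hxT).2.1 rfl
    · exact (hT _ hxT).2.2 rfl
  have hd2 : Disjoint ({1, z} ∪ T) ((fun x => x * z) '' T) := Set.disjoint_left.2 fun x hx hx' => by
    obtain ⟨y, hy, rfl⟩ := hx'
    rcases hx with (e | e) | e
    · refine (hT y hy).2.2 ?_
      rw [eq_inv_of_mul_eq_one_left e, inv_eq_of_mul_eq_one_right hzz]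
    · exact (hT y hy).2.1 (mul_eq_right.1 (e : y * z = z))
    · exact hex y hy e
  rw [show Nat.card (zg S) = (zg S : Set G).ncard from rfl, heq,
    Set.ncard_union_eq hd2 (Set.toFinite _) (Set.toFinite _),
    Set.ncard_union_eq hd1 (Set.toFinite _) (Set.toFinite _), Set.ncard_pair hz1.symm,
    Set.ncard_image_of_injective _ (mul_left_injective z)]
  omega

variable {S : Sylow 2 G} {z : G} {B : Type u} [Group B] [Finite B] (c : Cover S z B) (h : FourUnique G)
include c h

theorem Cover.transitive [IsSimpleGroup G] (hna : ¬ IsMulCommutative G) {a : G} (ha : a ∈ zg S) (ha1 : a ≠ 1) :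
    ∃ n ∈ normalizer ((S : Subgroup G) : Set G), n * z * n⁻¹ = a := by
  haveI : Fact (Nat.Prime 2) := ⟨Nat.prime_two⟩
  set N := normalizer ((S : Subgroup G) : Set G) with hN
  by_contra hcon
  let Ω : Set G := {x | ∃ n ∈ N, n * z * n⁻¹ = x}
  have hzΩ : z ∈ Ω := ⟨1, one_mem _, by simp⟩
  have hΩz : ∀ x ∈ Ω, x ∈ zg S ∧ x ≠ 1 := by
    rintro _ ⟨n, hn, rfl⟩
    exact ⟨(stronglyClosed_zg h S).2 z c.hz n ((mem_normalizer_iff.1 hn z).1 (zg_le S c.hz)),
      fun e => c.hz1 (conj_eq_one_iff.1 e)⟩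
  have hconj : ∀ x ∈ Ω, ∀ n ∈ N, n * x * n⁻¹ ∈ Ω := by
    rintro _ ⟨m, hm, rfl⟩ n hn
    exact ⟨n * m, mul_mem hn hm, by group⟩
  obtain ⟨n₀, hn₀, hne⟩ := exists_moving h hna c.hz c.hz1
  have hb : n₀ * z * n₀⁻¹ ∈ Ω := ⟨n₀, hn₀, rfl⟩
  have haz : a ≠ z := fun e => hcon (e ▸ ⟨1, one_mem _, by simp⟩)
  have haΩ : a ∉ Ω := fun e => hcon e
  have hcov : ∀ x ∈ zg S, x ≠ 1 → x ≠ z → x ∈ Ω ∨ x * z ∈ Ω := by
    intro x hx hx1 hxz
    obtain ⟨m, hm, -, e⟩ := c.exists_move h (hΩz _ hb).1 (hΩz _ hb).2 hne hx hx1 hxz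
    have hmem := hconj _ hb m hm
    rcases e with e | e <;> rw [e] at hmem
    · exact Or.inl hmem
    · exact Or.inr hmem
  have hex : ∀ x ∈ Ω, x ≠ z → x * z ∉ Ω := by
    intro x hx hxz hxz'
    obtain ⟨m, hm, hmz, e⟩ := c.exists_move h (hΩz x hx).1 (hΩz x hx).2 hxz ha ha1 haz
    rcases e with e | e
    · exact haΩ (e ▸ hconj x hx m hm)
    · refine haΩ ?_
      have h1 := hconj _ hxz' m hm
      have e2 : m * (x * z) * m⁻¹ = a := by
        rw [show m * (x * z) * m⁻¹ = (m * x * m⁻¹) * (m * z * m⁻¹) by group, e,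
          mem_centralizer_singleton_iff.1 hmz, mul_inv_cancel_right, mul_assoc, (mem_zg.1 c.hz).2.1, mul_one]
      rwa [e2] at h1
  -- the orbit has odd size
  have hodd : Odd Ω.ncard := by
    letI : MulAction ↥N G := MulAction.compHom G ((MulAut.conj : G →* MulAut G).comp N.subtype)
    have horb : MulAction.orbit ↥N z = Ω := by
      ext x
      exact ⟨fun ⟨n, e⟩ => ⟨n, n.2, e⟩, fun ⟨n, hn, e⟩ => ⟨⟨n, hn⟩, e⟩⟩
    have hle : (S : Subgroup G).subgroupOf N ≤ MulAction.stabilizer ↥N z := fun n hn => by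
      show (n : G) * z * (n : G)⁻¹ = z
      rw [zg_commute c.hz (show (n : G) ∈ (S : Subgroup G) from hn), mul_inv_cancel_right]
    have hd := (Subgroup.index_dvd_of_le hle).trans
      (Subgroup.relIndex_dvd_index_of_le (le_normalizer : (S : Subgroup G) ≤ N))
    rw [MulAction.index_stabilizer, horb] at hd
    exact Nat.not_even_iff_odd.1 fun he => S.not_dvd_index ((even_iff_two_dvd.1 he).trans hd)
  have hT := eq_two_mul_ncard c.hz (T := Ω \ {z})
    (fun x hx => ⟨(hΩz x hx.1).1, (hΩz x hx.1).2, hx.2⟩)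
    (fun x hx hx1 hxz => (hcov x hx hx1 hxz).imp (fun e => ⟨e, hxz⟩)
      fun e => ⟨e, fun e' => hx1 (mul_eq_right.1 (e' : x * z = z))⟩)
    (fun x hx e => hex x hx.1 hx.2 e.1) c.hz1
  rw [Set.ncard_sdiff_singleton_of_mem hzΩ] at hT
  have hpos : 0 < Ω.ncard := (Set.ncard_pos (Set.toFinite _)).2 ⟨z, hzΩ⟩
  have h2 : Nat.card (zg S) = 2 * Ω.ncard := by omega
  obtain ⟨k, hk⟩ := IsPGroup.iff_card.1 (S.isPGroup'.to_le (zg_le S))
  rw [hk] at h2
  obtain ⟨j, hj⟩ := hodd
  rcases k with _ | _ | k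
  · omega
  · have : Ω.ncard = 1 := by simpa using h2.symm
    exact hne ((Set.ncard_le_one (Set.toFinite _)).1 this.le _ hb _ hzΩ)
  · have : Ω.ncard = 2 ^ (k + 1) := by rw [pow_succ'] at h2; omega
    rw [hj, pow_succ'] at this
    omega

/-- `Ω₁ Z(S)` has order eight. -/
theorem Cover.card_zg [IsSimpleGroup G] (hna : ¬ IsMulCommutative G) : Nat.card (zg S) = 8 := by
  haveI : Fact (Nat.Prime 2) := ⟨Nat.prime_two⟩
  set N := normalizer ((S : Subgroup G) : Set G) with hN
  haveI hcomm : IsMulCommutative (zg S) :=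
    ⟨⟨fun a b => Subtype.ext (zg_commute b.2 (zg_le S a.2))⟩⟩
  have hmem : ∀ n ∈ N, ∀ x ∈ zg S, n * x * n⁻¹ ∈ zg S := fun n hn x hx =>
    (stronglyClosed_zg h S).2 x hx n ((mem_normalizer_iff.1 hn x).1 (zg_le S hx))
  let V := Additive ↥(zg S)
  letI : Module (ZMod 2) V := AddCommGroup.zmodModule fun v => by
    rw [two_nsmul]
    exact Subtype.ext (mem_zg.1 (Additive.toMul v).2).2.1
  let act : N → V ≃+ V := fun n =>
    { toFun := fun v => Additive.ofMul ⟨(n : G) * ((Additive.toMul v : zg S) : G) * (n : G)⁻¹,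
        hmem n n.2 _ (Additive.toMul v).2⟩
      invFun := fun v => Additive.ofMul ⟨(n : G)⁻¹ * ((Additive.toMul v : zg S) : G) * (n : G),
        by simpa using hmem (n : G)⁻¹ (inv_mem n.2) _ (Additive.toMul v).2⟩
      left_inv := fun v => Additive.toMul.injective (Subtype.ext (by simp [mul_assoc]))
      right_inv := fun v => Additive.toMul.injective (Subtype.ext (by simp [mul_assoc]))
      map_add' := fun v w => Additive.toMul.injective (Subtype.ext (by
        show (n : G) * (((Additive.toMul v : zg S) : G) * ((Additive.toMul w : zg S) : G)) * (n : G)⁻¹ =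
          ((n : G) * ((Additive.toMul v : zg S) : G) * (n : G)⁻¹) *
            ((n : G) * ((Additive.toMul w : zg S) : G) * (n : G)⁻¹)
        group)) }
  let ρ : ↥N →* (V ≃ₗ[ZMod 2] V) :=
    { toFun := fun n => (act n).toLinearEquiv (ZMod.map_smul (act n))
      map_one' := LinearEquiv.ext fun v => Additive.toMul.injective (Subtype.ext (by simp [act]))
      map_mul' := fun m n => LinearEquiv.ext fun v =>
        Additive.toMul.injective (Subtype.ext (by simp [act, mul_assoc])) }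
  have hρ : ∀ (n : N) (v : V), (((Additive.toMul (ρ n v)) : zg S) : G) =
      (n : G) * ((Additive.toMul v : zg S) : G) * (n : G)⁻¹ := fun n v => rfl
  haveI : Nontrivial V := ⟨⟨Additive.ofMul ⟨z, c.hz⟩, 0, fun e =>
    c.hz1 (congrArg (fun v : V => ((Additive.toMul v : zg S) : G)) e)⟩⟩
  haveI : Finite (ρ.range) := Finite.of_surjective ρ.rangeRestrict ρ.rangeRestrict_surjective
  have hodd : Odd (Nat.card ρ.range) := by
    rw [← Subgroup.index_ker]
    have hle : (S : Subgroup G).subgroupOf N ≤ ρ.ker := fun n hn =>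
      MonoidHom.mem_ker.2 (LinearEquiv.ext fun v => Additive.toMul.injective (Subtype.ext (by
        rw [hρ, zg_commute (Additive.toMul v).2 (show (n : G) ∈ (S : Subgroup G) from hn), mul_inv_cancel_right]; rfl)))
    have hd := (Subgroup.index_dvd_of_le hle).trans
      (Subgroup.relIndex_dvd_index_of_le (le_normalizer : (S : Subgroup G) ≤ N))
    exact Nat.not_even_iff_odd.1 fun he => S.not_dvd_index ((even_iff_two_dvd.1 he).trans hd)
  have hne1 : ∀ v : V, v ≠ 0 → ((Additive.toMul v : zg S) : G) ≠ 1 := fun v hv e =>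
    hv (Additive.toMul.injective (Subtype.ext e))
  have htrans : Recog.HuppertCases.Trans (ρ.range.subtype) := by
    intro v w hv hw
    obtain ⟨n, hn, en⟩ := c.transitive h hna (Additive.toMul v).2 (hne1 v hv)
    obtain ⟨m, hm, em⟩ := c.transitive h hna (Additive.toMul w).2 (hne1 w hw)
    refine ⟨⟨ρ (⟨m, hm⟩ * ⟨n, hn⟩⁻¹), _, rfl⟩, Additive.toMul.injective (Subtype.ext ?_)⟩
    show (((Additive.toMul (ρ (⟨m, hm⟩ * ⟨n, hn⟩⁻¹) v)) : zg S) : G) = _
    rw [hρ, ← en]
    simp only [Subgroup.coe_mul, InvMemClass.coe_inv]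
    rw [← em]; group
  obtain ⟨F, i1, i2, e, hF⟩ := OddTransitive.semi_of_odd (ρ := ρ.range.subtype) hodd
    ρ.range.subtype_injective htrans
  obtain ⟨k, hk⟩ := IsPGroup.iff_card.1 (S.isPGroup'.to_le (zg_le S))
  have hFcard : Fintype.card F = 2 ^ k := by
    rw [← Nat.card_eq_fintype_card, ← Nat.card_congr e.toEquiv, ← hk]
    exact Nat.card_congr Additive.toMul
  obtain ⟨a, ha, b, hb, ha2, hb2, hab⟩ := (torus_at (BenderCover.torusSylow_bender c.bender) c.sylP).2.2
  obtain ⟨a₀, ha₀, ha₀1, ha₀z, a', rfl, ea⟩ := c.exists_zg h ha ha2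
  obtain ⟨b₀, hb₀, hb₀1, hb₀z, b', rfl, eb⟩ := c.exists_zg h hb hb2
  have hzz : z * z = 1 := (mem_zg.1 c.hz).2.1
  have hk3 : 3 ≤ k := by
    by_contra hlt
    have hle : Nat.card (zg S) ≤ 4 := hk ▸ (Nat.pow_le_pow_right two_pos (show k ≤ 2 by omega))
    have hsub : ({1, z, (a' : G), (b' : G), (a' : G) * z} : Set G) ⊆ (zg S : Set G) := by
      rintro x (rfl | rfl | rfl | rfl | rfl)
      exacts [one_mem _, c.hz, ha₀, hb₀, mul_mem ha₀ c.hz]
    have hcard := Set.ncard_le_ncard hsub (Set.toFinite _)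
    have hab' : (a' : G) ≠ b' := fun e => hab (by rw [← ea, ← eb, Subtype.ext e])
    have hb'z : (b' : G) ≠ (a' : G) * z := fun e => hab (by
      rw [← ea, ← eb, show b' = a' * ⟨z, zg_le_conjClosure S z c.hz⟩ from Subtype.ext e, map_mul,
        c.ker_z ⟨z, zg_le_conjClosure S z c.hz⟩ rfl, mul_one])
    have haz' : (a' : G) * z ≠ 1 := fun e => ha₀z (by
      rw [eq_inv_of_mul_eq_one_left e, inv_eq_of_mul_eq_one_right hzz])
    rw [Set.ncard_insert_of_notMem (by simp [c.hz1.symm, ha₀1.symm, hb₀1.symm, haz'.symm]) (Set.toFinite _),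
      Set.ncard_insert_of_notMem (by simp [ha₀z.symm, hb₀z.symm, ha₀1]) (Set.toFinite _),
      Set.ncard_insert_of_notMem (by simp [hab', c.hz1]) (Set.toFinite _),
      Set.ncard_insert_of_notMem (by simp [hb'z]) (Set.toFinite _), Set.ncard_singleton] at hcard
    have h0 : (zg S : Set G).ncard = Nat.card (zg S) := rfl
    omega
  let zv : V := Additive.ofMul ⟨z, c.hz⟩
  have hezv : e zv ≠ 0 := by
    rw [Ne, AddEquivClass.map_eq_zero_iff]
    exact fun e' => c.hz1 (congrArg (fun v : V => ((Additive.toMul v : zg S) : G)) e')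
  let av : V := Additive.ofMul ⟨a', ha₀⟩
  let I : Set G := {x | ∃ n : N, (n : G) * z * (n : G)⁻¹ = z ∧ (n : G) * a' * (n : G)⁻¹ = x}
  have hdet : ∀ n : N, (n : G) * z * (n : G)⁻¹ = z →
      ∃ σ : F ≃+* F, e (ρ n av) = e zv / σ (e zv) * σ (e av) := by
    intro n hn
    obtain ⟨α, σ, hσ⟩ := hF ⟨ρ n, n, rfl⟩
    refine ⟨σ, ?_⟩
    have h1 : e (ρ n zv) = α * σ (e zv) := hσ zv
    rw [show ρ n zv = zv from Additive.toMul.injective (Subtype.ext hn)] at h1
    have h2 : e (ρ n av) = α * σ (e av) := hσ av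
    rw [h2]
    congr 1
    rw [eq_div_iff ((map_ne_zero σ).2 hezv)]
    exact h1.symm
  have hI : I.ncard ≤ k := by
    choose σ hσ using hdet
    haveI : Finite (F ≃+* F) := Finite.of_injective (fun e : F ≃+* F => (e : F → F)) DFunLike.coe_injective
    let f : I → (F ≃+* F) := fun x => σ x.2.choose x.2.choose_spec.1
    have hf : Function.Injective f := fun x y exy => by
      have h1 := hσ x.2.choose x.2.choose_spec.1
      have h2 := hσ y.2.choose y.2.choose_spec.1
      rw [show σ x.2.choose x.2.choose_spec.1 = σ y.2.choose y.2.choose_spec.1 from exy, ← h2] at h1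
      have h3 := congrArg (fun v : V => ((Additive.toMul v : zg S) : G)) (e.injective h1)
      simp only [hρ] at h3
      exact Subtype.ext (x.2.choose_spec.2.symm.trans (h3.trans y.2.choose_spec.2))
    exact (Nat.card_le_card_of_injective f hf).trans (card_ringAut_le hFcard (by omega))
  have hcov : (zg S : Set G) ⊆ ({1, z} ∪ I) ∪ (fun x => x * z) '' I := by
    intro x hx
    by_cases h1 : x = 1
    · exact Or.inl (Or.inl (Or.inl h1))
    by_cases h2 : x = z
    · exact Or.inl (Or.inl (Or.inr h2))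
    obtain ⟨m, hm, hmz, e'⟩ := c.exists_move h ha₀ ha₀1 ha₀z hx h1 h2
    have hmz' : m * z * m⁻¹ = z := by rw [mem_centralizer_singleton_iff.1 hmz, mul_inv_cancel_right]
    rcases e' with e' | e'
    · exact Or.inl (Or.inr ⟨⟨m, hm⟩, hmz', e'⟩)
    · exact Or.inr ⟨x * z, ⟨⟨m, hm⟩, hmz', e'⟩, by simp [mul_assoc, hzz]⟩
  have hle := (Set.ncard_le_ncard hcov (Set.toFinite _)).trans ((Set.ncard_union_le _ _).trans
    (Nat.add_le_add (Set.ncard_union_le _ _) (Set.ncard_image_le (Set.toFinite I))))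
  rw [show (zg S : Set G).ncard = Nat.card (zg S) from rfl, hk, Set.ncard_pair c.hz1.symm] at hle
  rcases Nat.lt_or_ge k 4 with hlt | h4
  · rw [hk, show k = 3 by omega]
    norm_num
  · exfalso
    have : ∀ j, 4 ≤ j → 2 * j + 2 < 2 ^ j := by
      intro j hj
      induction j, hj using Nat.le_induction with
      | base => norm_num
      | succ j hj ih => rw [pow_succ']; omega
    have := this k h4
    omega

end Cfsg.Agent.Invol.CentRank
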