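import Cfsg.Agent.Lib.Invol.CentRank.Inner
import Cfsg.Agent.Lib.Invol.CentInt.Cover

/-!
# The Bender group is not `PSU(3, 4)`

Every element of order a power of five in `N(S) ∩ C(z)` centralising `Ω₁ Z(S)` acts on `S` modulo the derived
group of `K`, which avoids `z`, as the identity.  Moving such a commutator to `z` by transitivity is absurd.
-/

set_option autoImplicit false
set_option linter.style.haveILetI false
set_option linter.unusedSectionVars false

open Subgroup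
open scoped commutatorElement

namespace Cfsg.Agent.Invol.CentRank

universe u

variable {G : Type u} [Group G] [Finite G] {S : Sylow 2 G} {z : G}

/-- The derived group of `K`, in `G`. -/
def derivedK (S : Sylow 2 G) (z : G) : Subgroup G :=
  (commutator ↥(conjClosure S z)).map (conjClosure S z).subtype

theorem derivedK_eq (S : Sylow 2 G) (z : G) : derivedK S z = ⁅conjClosure S z, conjClosure S z⁆ := by
  rw [derivedK, _root_.commutator_def, map_commutator, ← MonoidHom.range_eq_map, range_subtype]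

theorem derivedK_conj {m x : G} (hm : m ∈ centralizer ({z} : Set G)) (hx : x ∈ derivedK S z) :
    m * x * m⁻¹ ∈ derivedK S z := by
  rw [derivedK_eq] at hx ⊢
  suffices hle : ⁅conjClosure S z, conjClosure S z⁆ ≤
      (⁅conjClosure S z, conjClosure S z⁆).comap (MulAut.conj m).toMonoidHom from hle hx
  refine commutator_le.2 fun a ha b hb => ?_
  rw [mem_comap, map_commutatorElement]
  exact commutator_mem_commutator (conjClosure_conj hm ha) (conjClosure_conj hm hb)

theorem sq_mem_derivedK {S : Sylow 2 G} {z k : G} (hk : k ∈ conjClosure S z) :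
    k * k ∈ derivedK S z := by
  rw [derivedK_eq]
  induction hk using closure_induction with
  | mem y hy =>
    obtain ⟨d, -, a, ha, rfl⟩ := hy
    rw [show d * a * d⁻¹ * (d * a * d⁻¹) = d * (a * a) * d⁻¹ by group, (mem_zg.1 ha).2.1, mul_one,
      mul_inv_cancel]
    exact one_mem _
  | one => rw [mul_one]; exact one_mem _
  | mul x y hx hy ex ey =>
    have hc := commutator_mem_commutator (inv_mem hx) hy
    rw [show x * y * (x * y) = (x * x) * ⁅x⁻¹, y⁆ * (y * y) by rw [commutatorElement_def]; group]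
    exact mul_mem (mul_mem ex hc) ey
  | inv x _ ex =>
    rw [show x⁻¹ * x⁻¹ = (x * x)⁻¹ by group]
    exact inv_mem ex

/-- An element of odd order of `K` lies in the derived group. -/
theorem mem_derivedK {k : G} (hk : k ∈ conjClosure S z) {n : ℕ} (hn : Odd n) (h1 : k ^ n = 1) :
    k ∈ derivedK S z := by
  obtain ⟨i, rfl⟩ := hn
  have e : ((k * k) ^ i)⁻¹ = k := by
    refine inv_eq_of_mul_eq_one_right ?_
    rw [← pow_two, ← pow_mul, ← pow_succ, h1]
  rw [← e]
  exact inv_mem (pow_mem (sq_mem_derivedK hk) i)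

variable {B : Type u} [Group B] [Finite B] (c : Cover S z B) (h : FourUnique G)
include c

/-- `z` is not in the derived group. -/
theorem Cover.z_notMem_derived (hW : {x | x ∈ (c.sylP : Subgroup B) ∧ x * x = 1}.ncard ≤ 4)
    (U : UnitData (c.sylP : Subgroup B)) : z ∉ derivedK S z := by
  haveI : Fact (Nat.Prime 2) := ⟨Nat.prime_two⟩
  haveI := c.bender.isSimple
  intro hz'
  set K := conjClosure S z with hK
  obtain ⟨zK, hzD, hzv⟩ := hz'
  have hS : ∀ T : Sylow 2 ↥K, ¬ IsMulCommutative ↥(T : Subgroup ↥K) := by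
    intro T hT
    obtain ⟨g, hg⟩ := MulAction.exists_smul_eq ↥K c.sylT T
    refine U.ne_comm ⟨⟨?_⟩⟩
    rintro ⟨_, a, ha, rfl⟩ ⟨_, b, hb, rfl⟩
    refine Subtype.ext ?_
    show c.π a * c.π b = c.π b * c.π a
    have hmem : ∀ x ∈ (c.sylT : Subgroup ↥K), g * x * g⁻¹ ∈ (T : Subgroup ↥K) := fun x hx => by
      rw [← hg, Sylow.coe_subgroup_smul]
      exact ⟨x, hx, rfl⟩
    have e := congrArg Subtype.val
      (hT.is_comm.comm (⟨_, hmem a ha⟩ : (T : Subgroup ↥K)) ⟨_, hmem b hb⟩)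
    have e' : g * (a * b) * g⁻¹ = g * (b * a) * g⁻¹ := by
      calc g * (a * b) * g⁻¹ = (g * a * g⁻¹) * (g * b * g⁻¹) := by group
        _ = (g * b * g⁻¹) * (g * a * g⁻¹) := e
        _ = g * (b * a) * g⁻¹ := by group
    rw [← map_mul, ← map_mul, mul_left_cancel (mul_right_cancel e')]
  obtain ⟨A, L, hAc, -, hperf, hsup, hcase⟩ := CentInt.cover (M := ↥K) c.π.ker c.ker_le_center c.gen hS
    (c.bender.congr (QuotientGroup.quotientKerEquivOfSurjective c.π c.surj).symm)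
  have hcen : ∀ x ∈ center ↥K, c.π x = 1 := fun x hx => by
    have hx' : c.π x ∈ center B := mem_center_iff.2 fun b => by
      obtain ⟨k, rfl⟩ := c.surj b
      rw [← map_mul, ← map_mul, mem_center_iff.1 hx k]
    rwa [c.center_B, mem_bot] at hx'
  haveI hAn : A.Normal := ⟨fun a ha g => by
    rw [mem_center_iff.1 (hAc ha) g, mul_inv_cancel_right]; exact ha⟩
  have hdec : ∀ x : ↥K, ∃ a ∈ A, ∃ l ∈ L, x = a * l := fun x => by
    obtain ⟨a, ha, l, hl, e⟩ := Subgroup.mem_sup_of_normal_left.1 (hsup ▸ mem_top x : x ∈ A ⊔ L)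
    exact ⟨a, ha, l, hl, e.symm⟩
  let σ : ↥L →* B := c.π.comp L.subtype
  have hσ : Function.Surjective σ := fun b => by
    obtain ⟨x, rfl⟩ := c.surj b
    obtain ⟨a, ha, l, hl, rfl⟩ := hdec x
    exact ⟨⟨l, hl⟩, by rw [map_mul, hcen a (hAc ha), one_mul]; rfl⟩
  rcases hcase with ⟨⟨e⟩, -⟩ | ⟨-, hcase⟩
  · -- `SL(2, 5)` is too small
    have h1 := Subgroup.card_dvd_of_surjective σ hσ
    rw [Nat.card_congr e.toEquiv, Lie.SympWreath.natCard_SL2, ZMod.card] at h1
    have h2 := (card_subgroup_dvd_card (c.sylP : Subgroup B)).trans h1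
    rw [U.card] at h2
    norm_num at h2
  rcases hcase with ⟨-, hodd, -⟩ | ⟨-, F, i1, i2, hF, ⟨e⟩⟩
  · have hcomm : commutator ↥K ≤ L := by
      rw [_root_.commutator_def, commutator_le]
      intro x _ y _
      obtain ⟨a, ha, l, hl, rfl⟩ := hdec x
      obtain ⟨b, hb, r, hr, rfl⟩ := hdec y
      have c1 : ∀ g, Commute a g := fun g => (mem_center_iff.1 (hAc ha) g).symm
      have c2 : ∀ g, Commute b g := fun g => (mem_center_iff.1 (hAc hb) g).symm
      have e : ⁅a * l, b * r⁆ = ⁅l, r⁆ := by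
        simp only [commutatorElement_def, mul_inv_rev]
        calc a * l * (b * r) * (l⁻¹ * a⁻¹) * (r⁻¹ * b⁻¹)
            = (a * (l * b * r * l⁻¹)) * a⁻¹ * r⁻¹ * b⁻¹ := by group
          _ = l * (b * (r * l⁻¹ * r⁻¹)) * b⁻¹ := by rw [(c1 _).eq]; group
          _ = l * r * l⁻¹ * r⁻¹ := by rw [(c2 _).eq]; group
      rw [e, commutatorElement_def]
      exact mul_mem (mul_mem (mul_mem hl hr) (inv_mem hl)) (inv_mem hr)
    have hzL : (⟨zK, hcomm hzD⟩ : ↥L) ∈ center ↥L := mem_center_iff.2 fun g => Subtype.ext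
      (mem_center_iff.1 (c.ker_le_center (MonoidHom.mem_ker.2 (c.ker_z zK hzv))) g)
    have h2 : orderOf (⟨zK, hcomm hzD⟩ : ↥L) = 2 := by
      rw [Subgroup.orderOf_mk, ← Subgroup.orderOf_coe, show (zK : G) = z from hzv,
        (twoCentral_of_mem c.hz c.hz1).1]
    have := Subgroup.orderOf_dvd_natCard _ hzL
    rw [h2] at this
    exact Nat.not_even_iff_odd.2 hodd (even_iff_two_dvd.2 this)
  · -- the cover of `Sz(8)` has too many involutions
    have hle : center ↥L ≤ σ.ker := fun x hx => by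
      refine MonoidHom.mem_ker.2 ?_
      have hx' : σ x ∈ center B := mem_center_iff.2 fun b => by
        obtain ⟨y, rfl⟩ := hσ b
        rw [← map_mul, ← map_mul, mem_center_iff.1 hx y]
      rwa [c.center_B, mem_bot] at hx'
    let τ : ↥L ⧸ center ↥L →* B := QuotientGroup.lift (center ↥L) σ hle
    have hτ : Function.Surjective τ := fun b => by
      obtain ⟨x, rfl⟩ := hσ b
      exact ⟨QuotientGroup.mk x, rfl⟩
    have hS8 : Suz.SzField F 1 := ⟨le_rfl, by rw [hF]; norm_num⟩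
    haveI := Suz.lie_isSimple hS8
    haveI : IsSimpleGroup (↥L ⧸ center ↥L) := e.isSimpleGroup
    have hinj : Function.Injective τ := by
      rw [← MonoidHom.ker_eq_bot_iff]
      refine (inferInstance : τ.ker.Normal).eq_bot_or_eq_top.resolve_right fun ht => ?_
      obtain ⟨a, b, hab⟩ := c.bender.not_comm
      obtain ⟨a, rfl⟩ := hτ a
      obtain ⟨b, rfl⟩ := hτ b
      refine hab ?_
      rw [MonoidHom.mem_ker.1 (ht ▸ mem_top a), MonoidHom.mem_ker.1 (ht ▸ mem_top b)]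
    obtain ⟨P₀, hP₀⟩ := sylow_sz hS8
    obtain ⟨ψ, hψ⟩ := exists_iso_sylow
      ((Suz.szEquiv hS8).trans (e.symm.trans (MulEquiv.ofBijective τ ⟨hinj, hτ⟩))) P₀ c.sylP
    rw [← hψ, ncard_sq_one_map] at hW
    omega

include h

/-- An element of order a power of five centralising `Ω₁ Z(S)` and normalising `S` moves each element of
`S` within its coset of the derived group. -/
theorem Cover.comm_mem_derived (hW : {x | x ∈ (c.sylP : Subgroup B) ∧ x * x = 1}.ncard ≤ 4)
    (U : UnitData (c.sylP : Subgroup B)) {r : G} (hrN : r ∈ normalizer ((S : Subgroup G) : Set G))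
    (hrz : ∀ a ∈ zg S, r * a * r⁻¹ = a) {j : ℕ} (hr : r ^ 5 ^ j = 1) {s : G} (hs : s ∈ (S : Subgroup G)) :
    r * s * r⁻¹ * s⁻¹ ∈ derivedK S z := by
  haveI : Fact (Nat.Prime 2) := ⟨Nat.prime_two⟩
  set C := centralizer ({z} : Set G) with hC
  have hrC : r ∈ C := mem_centralizer_singleton_iff.2 (mul_inv_eq_iff_eq_mul.1 (hrz z c.hz))
  let rC : ↥C := ⟨r, hrC⟩
  have hmove : ∀ m : ↥C, (m : G) ∈ normalizer ((S : Subgroup G) : Set G) →
      ∀ x ∈ (c.sylP : Subgroup B), c.act m x ∈ (c.sylP : Subgroup B) := by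
    intro m hm x hx
    obtain ⟨t, ht, rfl⟩ := c.mem_sylP.1 hx
    rw [c.act_π]
    exact c.mem_sylP.2 ⟨_, (mem_normalizer_iff.1 hm _).1 ht, rfl⟩
  have hφ : c.act rC ∈ fixGroup c.sylP := by
    refine ⟨fun x => ⟨fun hx => ?_, hmove rC hrN x⟩, fun w hw hw2 => ?_⟩
    · have h1 := hmove rC⁻¹ (inv_mem hrN) _ hx
      rwa [map_inv, MulAut.inv_apply_self] at h1
    · by_cases h1 : w = 1
      · rw [h1, map_one]
      obtain ⟨a, ha, -, -, a', rfl, rfl⟩ := c.exists_zg h hw (orderOf_two_iff.2 ⟨hw2, h1⟩)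
      rw [c.act_π]
      exact congrArg c.π (Subtype.ext (hrz _ ha))
  have hφ5 : c.act rC ^ 5 ^ j = 1 := by
    rw [← map_pow, show rC ^ 5 ^ j = 1 from Subtype.ext hr, map_one]
  have ht := torus_at (BenderCover.torusSylow_bender c.bender) c.sylP
  obtain ⟨b, hb, hφb⟩ := inner_of_five (c.borel h) U ht.1 ht.2.2 hW (fun a a' e => by
    refine (mul_inv_eq_one.1 (c.conj_eq_one (b := a * a'⁻¹) ?_))
    rw [map_mul, e, map_inv, mul_inv_cancel]) hφ hφ5
  have hb5 : b ^ 5 ^ j = 1 := c.conj_eq_one (by rw [map_pow, ← hφb, hφ5])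
  obtain ⟨k, i, hkb, hk5⟩ := c.lift_five hb5
  have hkN := c.mem_normalizer h (k := k) (hkb ▸ hb)
  have hkC : (k : G) ∈ C := conjClosure_le c.hz k.2
  let kC : ↥C := ⟨k, hkC⟩
  have hkD : (k : G) ∈ derivedK S z := mem_derivedK k.2 (Odd.pow (by decide)) hk5
  let sC : ↥C := ⟨s, c.sylow_le hs⟩
  let w : ↥C := kC⁻¹ * rC
  have hwact : c.act w = 1 := by
    rw [map_mul, map_inv, hφb, c.act_mem (m := kC) k.2, show (⟨kC, k.2⟩ : ↥(conjClosure S z)) = k from rfl, hkb,
      inv_mul_cancel]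
  have hwN : (w : G) ∈ normalizer ((S : Subgroup G) : Set G) := mul_mem (inv_mem hkN) hrN
  let Q : Subgroup ↥C := (S : Subgroup G).subgroupOf C ⊓ c.act.ker
  have hqQ : w * sC * w⁻¹ * sC⁻¹ ∈ Q := by
    refine ⟨show (w : G) * s * (w : G)⁻¹ * s⁻¹ ∈ (S : Subgroup G) from
      mul_mem ((mem_normalizer_iff.1 hwN s).1 hs) (inv_mem hs), MonoidHom.mem_ker.2 ?_⟩
    rw [map_mul, map_mul, map_mul, map_inv, map_inv, hwact, one_mul, inv_one, mul_one, mul_inv_cancel]
  set q := w * sC * w⁻¹ * sC⁻¹ with hq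
  -- `k` centralises `Q`
  have hkQ : ∀ x ∈ Q, kC * x = x * kC := by
    intro x hx
    have hxS : (x : G) ∈ (S : Subgroup G) := hx.1
    let y : ↥(conjClosure S z) := ⟨(x : G) * k * (x : G)⁻¹, conjClosure_conj x.2 k.2⟩ * k⁻¹
    have hy : c.π y = 1 := by
      rw [map_mul, map_inv, ← c.act_π, show c.act x = 1 from MonoidHom.mem_ker.1 hx.2, MulAut.one_apply,
        mul_inv_cancel]
    have hyv : (y : G) = (x : G) * ((k : G) * (x : G)⁻¹ * (k : G)⁻¹) := by
      show (x : G) * k * (x : G)⁻¹ * (k : G)⁻¹ = _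
      group
    rcases c.ker_mem_sylow hy (hyv ▸ mul_mem hxS ((mem_normalizer_iff.1 hkN _).1 (inv_mem hxS))) with e | e
    · refine Subtype.ext ?_
      show (k : G) * x = x * k
      have e' : (x : G) * k * (x : G)⁻¹ * (k : G)⁻¹ = 1 := e
      calc (k : G) * x = ((x : G) * k * (x : G)⁻¹ * (k : G)⁻¹) * (k * x) := by rw [e', one_mul]
        _ = x * k := by group
    · exfalso
      have e' : (x : G) * k * (x : G)⁻¹ = z * k := by
        rw [← mul_inv_eq_iff_eq_mul]
        exact e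
      have hzk : Commute z k := (mem_centralizer_singleton_iff.1 hkC).symm
      have hz5 : z ^ 5 ^ i = 1 := by
        have h1 : ((x : G) * k * (x : G)⁻¹) ^ 5 ^ i = 1 := by rw [conj_pow, hk5, mul_one, mul_inv_cancel]
        rwa [e', hzk.mul_pow, hk5, mul_one] at h1
      have h2 := orderOf_dvd_of_pow_eq_one hz5
      rw [(twoCentral_of_mem c.hz c.hz1).1] at h2
      exact absurd ((Nat.prime_two.dvd_of_dvd_pow h2)) (by norm_num)
  -- so does `r`
  have hrQ : ∀ x ∈ Q, rC * x = x * rC := by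
    have hnorm : ∀ m : ↥C, (m : G) ∈ normalizer ((S : Subgroup G) : Set G) →
        ∀ x ∈ Q, m * x * m⁻¹ ∈ Q := by
      intro m hm x hx
      refine ⟨show (m : G) * x * (m : G)⁻¹ ∈ (S : Subgroup G) from (mem_normalizer_iff.1 hm _).1 hx.1,
        MonoidHom.mem_ker.2 ?_⟩
      rw [map_mul, map_mul, map_inv, MonoidHom.mem_ker.1 hx.2, mul_one, mul_inv_cancel]
    let e : MulAut ↥Q :=
      { toFun := fun x => ⟨rC * x * rC⁻¹, hnorm rC hrN x x.2⟩
        invFun := fun x => ⟨rC⁻¹ * x * rC, by simpa using hnorm rC⁻¹ (inv_mem hrN) x x.2⟩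
        left_inv := fun x => Subtype.ext (by simp [mul_assoc])
        right_inv := fun x => Subtype.ext (by simp [mul_assoc])
        map_mul' := fun x y => Subtype.ext (by simp [mul_assoc]) }
    have hpow : ∀ n : ℕ, ∀ x : Q, (((e ^ n) x : Q) : ↥C) = rC ^ n * x * (rC ^ n)⁻¹ := by
      intro n
      induction n with
      | zero => intro x; simp
      | succ n ih =>
        intro x
        rw [pow_succ' e, MulAut.mul_apply]
        show rC * ((e ^ n) x : Q) * rC⁻¹ = _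
        rw [ih, pow_succ' rC]
        group
    have hQ2 : IsPGroup 2 Q :=
      (S.isPGroup'.of_equiv (Subgroup.subgroupOfEquivOfLe c.sylow_le).symm).to_le inf_le_left
    have huniq : ∀ a b : Q, orderOf a = 2 → orderOf b = 2 → a = b := by
      have hone : ∀ a : Q, orderOf a = 2 → ((a : ↥C) : G) = z := fun a ha =>
        c.eq_z_of_act h a.2.1 (by rw [Subgroup.orderOf_coe, Subgroup.orderOf_coe, ha]) (MonoidHom.mem_ker.1 a.2.2)
      exact fun a b ha hb => Subtype.ext (Subtype.ext ((hone a ha).trans (hone b hb).symm))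
    have he : e = 1 := aut_fixed_of_five hQ2 huniq (j := j) (MulEquiv.ext fun x => Subtype.ext (by
      rw [hpow, show rC ^ 5 ^ j = 1 from Subtype.ext hr, one_mul, inv_one, mul_one]; rfl))
    intro x hx
    exact mul_inv_eq_iff_eq_mul.1 (congrArg Subtype.val (DFunLike.congr_fun he ⟨x, hx⟩))
  have hwq : w * q = q * w := by
    have h1 : kC⁻¹ * q = q * kC⁻¹ := (Commute.inv_left (hkQ q hqQ)).eq
    rw [mul_assoc, hrQ q hqQ, ← mul_assoc, h1, mul_assoc]
  -- modulo the derived group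
  let DC : Subgroup ↥C := (derivedK S z).subgroupOf C
  haveI : DC.Normal := ⟨fun x hx m => derivedK_conj m.2 hx⟩
  let μ := QuotientGroup.mk' DC
  have hμk : μ kC = 1 := (QuotientGroup.eq_one_iff kC).2 hkD
  have hμw : μ w = μ rC := by rw [map_mul, map_inv, hμk, inv_one, one_mul]
  have hμq : μ q = 1 := by
    have hcw : Commute (μ w) (μ q) := by
      show μ w * μ q = μ q * μ w
      rw [← map_mul, hwq, map_mul]
    have hstep : ∀ n : ℕ, μ w ^ n * μ sC * (μ w ^ n)⁻¹ = μ q ^ n * μ sC := by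
      intro n
      induction n with
      | zero => simp
      | succ n ih =>
        have h1 : μ w * μ sC * (μ w)⁻¹ = μ q * μ sC := by
          rw [← map_inv, ← map_mul, ← map_mul, ← map_mul]
          exact congrArg μ (inv_mul_cancel_right _ _).symm
        calc μ w ^ (n + 1) * μ sC * (μ w ^ (n + 1))⁻¹
            = μ w * (μ w ^ n * μ sC * (μ w ^ n)⁻¹) * (μ w)⁻¹ := by rw [pow_succ']; group
          _ = μ w * μ q ^ n * μ sC * (μ w)⁻¹ := by rw [ih]; group
          _ = μ q ^ n * (μ w * μ sC * (μ w)⁻¹) := by rw [(hcw.pow_right n).eq]; group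
          _ = μ q ^ (n + 1) * μ sC := by rw [h1, pow_succ, mul_assoc]
    have h1 := hstep (5 ^ j)
    rw [hμw, ← map_pow μ, show rC ^ 5 ^ j = 1 from Subtype.ext hr, map_one, one_mul, inv_one, mul_one,
      right_eq_mul] at h1
    obtain ⟨e, he⟩ := S.isPGroup' ⟨q, hqQ.1⟩
    refine orderOf_eq_one_iff.1 (Nat.eq_one_of_dvd_coprimes ((by norm_num : Nat.Coprime 2 5).pow e j)
      (orderOf_dvd_of_pow_eq_one ?_) (orderOf_dvd_of_pow_eq_one h1))
    rw [← map_pow, show q ^ 2 ^ e = 1 from Subtype.ext (congrArg Subtype.val he :), map_one]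
  have hfin : μ (rC * sC * rC⁻¹ * sC⁻¹) = 1 := by
    rw [← hμq, hq]
    simp only [map_mul, map_inv, ← hμw]
  exact (QuotientGroup.eq_one_iff (rC * sC * rC⁻¹ * sC⁻¹)).1 hfin

/-- The Bender group is not `PSU(3, 4)`. -/
theorem Cover.not_unit [IsSimpleGroup G] (hna : ¬ IsMulCommutative G)
    (U : UnitData (c.sylP : Subgroup B)) : False := by
  haveI : Fact (Nat.Prime 2) := ⟨Nat.prime_two⟩
  have hW := c.ncard_sq_one h hna
  obtain ⟨r, hr5, hrP, hrW, x, hx, hxr⟩ := U.five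
  have hrN : r ∈ normalizer ((c.sylP : Subgroup B) : Set B) := mem_normalizer_iff.2 fun y => ⟨hrP y, fun hy => by
    have h1 := hrP _ (hrP _ (hrP _ (hrP _ hy)))
    rwa [show r * (r * (r * (r * (r * y * r⁻¹) * r⁻¹) * r⁻¹) * r⁻¹) * r⁻¹ = (r * r * r * r * r) * y * (r * r * r * r * r)⁻¹ by
        simp only [mul_inv_rev, mul_assoc], show r * r * r * r * r = 1 by rw [← hr5]; simp only [pow_succ, pow_zero, one_mul],
      one_mul, inv_one, mul_one] at h1⟩
  obtain ⟨k, i, hkr, hk5⟩ := c.lift_five (b := r) (i := 1) (by rw [pow_one]; exact hr5)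
  have hkN := c.mem_normalizer h (k := k) (hkr ▸ hrN)
  have hkC := conjClosure_le c.hz k.2
  have hzK := zg_le_conjClosure S z c.hz
  have hkz : (k : G) * z * (k : G)⁻¹ = z := by rw [mem_centralizer_singleton_iff.1 hkC, mul_inv_cancel_right]
  have hfix : ∀ a ∈ zg S, (k : G) * a * (k : G)⁻¹ = a := by
    intro a ha
    by_cases ha1 : a = 1
    · simp [ha1]
    by_cases haz : a = z
    · rw [haz, hkz]
    obtain ⟨hi, hP⟩ := c.map_invol ha ha1 haz
    let a' : ↥(conjClosure S z) := ⟨a, zg_le_conjClosure S z ha⟩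
    have hy : c.π (a'⁻¹ * (k * a' * k⁻¹)) = 1 := by
      rw [map_mul, map_inv, map_mul, map_mul, map_inv, hkr, hrW _ hP (mul_self_of_orderOf_two hi), inv_mul_cancel]
    rcases c.ker_mem_sylow hy (mul_mem (inv_mem (zg_le S ha)) ((mem_normalizer_iff.1 hkN a).1 (zg_le S ha)))
      with e | e
    · exact (inv_mul_eq_one.1 (e : a⁻¹ * ((k : G) * a * (k : G)⁻¹) = 1)).symm
    · exfalso
      have e1 : (k : G) * a * (k : G)⁻¹ = a * z := inv_mul_eq_iff_eq_mul.1 e
      have hstep : ∀ n : ℕ, (k : G) ^ n * a * ((k : G) ^ n)⁻¹ = a * z ^ n := by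
        intro n
        induction n with
        | zero => simp
        | succ n ih =>
          calc (k : G) ^ (n + 1) * a * ((k : G) ^ (n + 1))⁻¹
              = k * ((k : G) ^ n * a * ((k : G) ^ n)⁻¹) * (k : G)⁻¹ := by rw [pow_succ']; group
            _ = ((k : G) * a * (k : G)⁻¹) * ((k : G) * z * (k : G)⁻¹) ^ n := by rw [ih, conj_pow]; group
            _ = a * z ^ (n + 1) := by rw [e1, hkz, mul_assoc, ← pow_succ']
      have h1 := hstep (5 ^ i)
      rw [hk5, one_mul, inv_one, mul_one, left_eq_mul] at h1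
      have h2 := orderOf_dvd_of_pow_eq_one h1
      rw [(twoCentral_of_mem c.hz c.hz1).1] at h2
      exact absurd ((Nat.prime_two.dvd_of_dvd_pow h2)) (by norm_num)
  obtain ⟨t, ht, rfl⟩ := c.mem_sylP.1 hx
  let t₀ : ↥(conjClosure S z) := k * t * k⁻¹ * t⁻¹
  have ht₀S : (t₀ : G) ∈ (S : Subgroup G) := mul_mem ((mem_normalizer_iff.1 hkN _).1 ht) (inv_mem ht)
  have ht₀π : c.π t₀ ≠ 1 := fun e => hxr (by
    rw [map_mul, map_mul, map_mul, map_inv, map_inv, hkr] at e
    exact mul_inv_eq_one.1 e)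
  obtain ⟨e, he⟩ := c.sylP.isPGroup' ⟨c.π t₀, c.mem_sylP.2 ⟨t₀, ht₀S, rfl⟩⟩
  have he' : c.π t₀ ^ 2 ^ e = 1 := congrArg Subtype.val he
  classical
  obtain ⟨d, hd⟩ : ∃ d, orderOf (c.π t₀ ^ 2 ^ d) = 2 := by
    obtain ⟨d', -, hd'⟩ := (Nat.dvd_prime_pow Nat.prime_two).1 (orderOf_dvd_of_pow_eq_one he')
    rcases d' with _ | d'
    · exact absurd (orderOf_eq_one_iff.1 (hd'.trans (pow_zero 2))) ht₀π
    · refine ⟨d', ?_⟩
      rw [orderOf_pow' _ (pow_ne_zero _ two_ne_zero), hd', Nat.gcd_eq_right (pow_dvd_pow 2 (by omega)),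
        pow_succ', Nat.mul_div_cancel _ (Nat.two_pow_pos d')]
  obtain ⟨a, ha, -, -, a', rfl, ea⟩ := c.exists_zg h (pow_mem (c.mem_sylP.2 ⟨t₀, ht₀S, rfl⟩) _) hd
  have hy : (t₀ : G) ^ 2 ^ d ∈ zg S ∧ (t₀ : G) ^ 2 ^ d ≠ 1 := by
    refine ⟨?_, fun e0 => ?_⟩
    · have hy : c.π (a'⁻¹ * t₀ ^ 2 ^ d) = 1 := by rw [map_mul, map_inv, map_pow, ea, inv_mul_cancel]
      rcases c.ker_mem_sylow hy (mul_mem (inv_mem (zg_le S ha)) (pow_mem ht₀S _)) with e1 | e1
      · have e2 : (a' : G)⁻¹ * (t₀ : G) ^ 2 ^ d = 1 := e1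
        rw [← inv_mul_eq_one.1 e2]
        exact ha
      · have e2 : (a' : G)⁻¹ * (t₀ : G) ^ 2 ^ d = z := e1
        rw [inv_mul_eq_iff_eq_mul.1 e2]
        exact mul_mem ha c.hz
    · rw [← map_pow, show t₀ ^ 2 ^ d = 1 from Subtype.ext e0, map_one, orderOf_one] at hd
      omega
  obtain ⟨n, hn, hnz⟩ := c.transitive h hna hy.1 hy.2
  -- transport to `z`
  have hr' : ∀ a ∈ zg S, (n⁻¹ * k * n) * a * (n⁻¹ * k * n)⁻¹ = a := fun a ha => by
    have h1 : n * a * n⁻¹ ∈ zg S :=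
      (stronglyClosed_zg h S).2 a ha n ((mem_normalizer_iff.1 hn a).1 (zg_le S ha))
    calc (n⁻¹ * k * n) * a * (n⁻¹ * k * n)⁻¹ = n⁻¹ * ((k : G) * (n * a * n⁻¹) * (k : G)⁻¹) * n := by group
      _ = n⁻¹ * (n * a * n⁻¹) * n := by rw [hfix _ h1]
      _ = a := by group
  have hr5' : (n⁻¹ * k * n) ^ 5 ^ i = 1 := by
    have h1 := conj_pow (i := 5 ^ i) (a := n⁻¹) (b := (k : G))
    rw [inv_inv] at h1
    rw [h1, hk5, mul_one, inv_mul_cancel]
  have hmem := c.comm_mem_derived h hW U (mul_mem (mul_mem (inv_mem hn) hkN) hn) hr' hr5'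
    (s := n⁻¹ * t * n) (by simpa using (mem_normalizer_iff.1 (inv_mem hn) _).1 ht)
  refine c.z_notMem_derived hW U ?_
  have ez : z = (n⁻¹ * k * n * (n⁻¹ * t * n) * (n⁻¹ * k * n)⁻¹ * (n⁻¹ * t * n)⁻¹) ^ 2 ^ d := by
    rw [show n⁻¹ * k * n * (n⁻¹ * t * n) * (n⁻¹ * k * n)⁻¹ * (n⁻¹ * t * n)⁻¹ = n⁻¹ * (t₀ : G) * n⁻¹⁻¹ by
      show _ = n⁻¹ * ((k : G) * t * (k : G)⁻¹ * (t : G)⁻¹) * n⁻¹⁻¹
      group, conj_pow, ← hnz]
    group
  have h9 := pow_mem hmem (2 ^ d)
  rwa [← ez] at h9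

end Cfsg.Agent.Invol.CentRank
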